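import Cfsg.Agent.H68.SpPres.Pres
import Cfsg.Agent.H99.AltBounded
import Cfsg.Agent.Arith.CoxeterA

/-!
The permuting groups: the symmetric groups for few planes and the alternating groups for many.
-/

set_option autoImplicit false
set_option linter.unusedSectionVars false
set_option linter.unusedSimpArgs false

namespace Cfsg.Agent.H68.SpPres

open Equiv Equiv.Perm
open Cfsg.Agent.H99.BoundedPres

section Perms

/-- A permutation carrying one injective tuple to another. -/
theorem exists_perm_ext {α : Type*} [Finite α] {m : ℕ} {f g : Fin m → α} (hf : Function.Injective f)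
    (hg : Function.Injective g) : ∃ σ : Perm α, ∀ i, σ (f i) = g i := by
  classical
  haveI := Fintype.ofFinite α
  refine ⟨((Equiv.ofInjective f hf).symm.trans (Equiv.ofInjective g hg)).extendSubtype, fun i => ?_⟩
  rw [Equiv.extendSubtype_apply_of_mem _ _ ⟨i, rfl⟩]
  simp

/-- An even permutation carrying one injective tuple to another, with two points to spare. -/
theorem exists_even_ext {α : Type*} [Fintype α] [DecidableEq α] {m : ℕ}
    (hm : m + 2 ≤ Fintype.card α) {f g : Fin m → α} (hf : Function.Injective f)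
    (hg : Function.Injective g) : ∃ σ : alternatingGroup α, ∀ i, (σ : Perm α) (f i) = g i := by
  obtain ⟨σ, hσ⟩ := exists_perm_ext hf hg
  rcases Int.units_eq_one_or (Perm.sign σ) with hs | hs
  · exact ⟨⟨σ, mem_alternatingGroup.2 hs⟩, hσ⟩
  obtain ⟨a, b, hab, ha, hb⟩ : ∃ a b : α, a ≠ b ∧ (∀ i, g i ≠ a) ∧ ∀ i, g i ≠ b := by
    have h : 1 < (Finset.univ \ Finset.univ.image g).card := by
      rw [Finset.card_sdiff_of_subset (Finset.subset_univ _), Finset.card_univ,
        Finset.card_image_of_injective _ hg, Finset.card_univ, Fintype.card_fin]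
      omega
    obtain ⟨a, ha, b, hb, hab⟩ := Finset.one_lt_card.1 h
    simp only [Finset.mem_sdiff, Finset.mem_univ, true_and, Finset.mem_image, not_exists] at ha hb
    exact ⟨a, b, hab, ha, hb⟩
  refine ⟨⟨swap a b * σ, mem_alternatingGroup.2 (by simp [hs, sign_swap hab])⟩, fun i => ?_⟩
  show swap a b (σ (f i)) = g i
  rw [hσ, swap_apply_of_ne_of_ne (ha i) (hb i)]

theorem injective_two {α : Type*} {a b : α} (h : a ≠ b) : Function.Injective ![a, b] := by
  intro i j hij
  fin_cases i <;> fin_cases j <;> simp_all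

theorem injective_three {α : Type*} {a b c : α} (hab : a ≠ b) (hac : a ≠ c) (hbc : b ≠ c) :
    Function.Injective ![a, b, c] := by
  intro i j hij
  fin_cases i <;> fin_cases j <;> simp_all

theorem injective_four {α : Type*} {a b c d : α} (hab : a ≠ b) (hac : a ≠ c) (had : a ≠ d) (hbc : b ≠ c)
    (hbd : b ≠ d) (hcd : c ≠ d) : Function.Injective ![a, b, c, d] := by
  intro i j hij
  fin_cases i <;> fin_cases j <;> simp_all

theorem ne_of_lt_two {n : ℕ} {x : Fin (n + 2)} (h0 : x ≠ 0) (h1 : x ≠ 1) : 2 ≤ (x : ℕ) := by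
  have a : (x : ℕ) ≠ 0 := fun h => h0 (Fin.ext h)
  have b : (x : ℕ) ≠ 1 := fun h => h1 (Fin.ext (by simpa using h))
  omega

theorem two_ne {n : ℕ} (hn : 0 < n) : (2 : Fin (n + 2)) ≠ 0 ∧ (2 : Fin (n + 2)) ≠ 1 := by
  have e := val_two hn
  constructor <;> intro h <;> rw [h] at e <;> simp at e

end Perms

section Generic

variable {n : ℕ} {W : Type*} [Group W] (act : W →* Perm (Fin (n + 2)))

/-- The short tuples can be moved as wished. -/
def Ext : Prop := ∀ m, m ≤ 4 → m ≤ n + 2 → ∀ f g : Fin m → Fin (n + 2), Function.Injective f →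
  Function.Injective g → ∃ w, ∀ i, act w (f i) = g i

variable {act}

theorem Ext.two (h : Ext act) (a b : Fin (n + 2)) (hab : a ≠ b) : ∃ w, act w 0 = a ∧ act w 1 = b := by
  obtain ⟨w, hw⟩ := h 2 (by omega) (by omega) ![0, 1] ![a, b] (injective_two (by simp))
    (injective_two hab)
  exact ⟨w, hw 0, hw 1⟩

theorem Ext.three (h : Ext act) {x : Fin (n + 2)} (h0 : x ≠ 0) (h1 : x ≠ 1) :
    ∃ w, act w 0 = 0 ∧ act w 1 = 1 ∧ act w 2 = x := by
  have hn : 0 < n := by have := ne_of_lt_two h0 h1; have := x.2; omega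
  obtain ⟨w, hw⟩ := h 3 (by omega) (by omega) ![0, 1, 2] ![0, 1, x]
    (injective_three (by simp) (two_ne hn).1.symm (two_ne hn).2.symm)
    (injective_three (by simp) (Ne.symm h0) (Ne.symm h1))
  exact ⟨w, hw 0, hw 1, hw 2⟩

theorem Ext.triple (h : Ext act) {k : ℕ} (hk : k + 2 < n + 2) : ∃ u, Triple act u k := by
  have hn : 0 < n := by omega
  obtain ⟨w, hw⟩ := h 3 (by omega) (by omega) ![0, 1, 2]
    ![⟨k, by omega⟩, ⟨k + 1, by omega⟩, ⟨k + 2, hk⟩]
    (injective_three (by simp) (two_ne hn).1.symm (two_ne hn).2.symm)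
    (injective_three (by simp [Fin.ext_iff]) (by simp [Fin.ext_iff]) (by simp [Fin.ext_iff]))
  exact ⟨w, congrArg Fin.val (hw 0), congrArg Fin.val (hw 1), congrArg Fin.val (hw 2)⟩

/-- The representatives of the pairs. -/
theorem Ext.exists_reps (h : Ext act) : ∃ reps : List W, reps.length ≤ min n 2 ∧
    ∀ w, ((act w 0 = 0 ∧ act w 1 = 1) ∨ (act w 0 = 1 ∧ act w 1 = 0)) ∨ ∃ u v p,
    ((act u 0 = 0 ∧ act u 1 = 1) ∨ (act u 0 = 1 ∧ act u 1 = 0)) ∧
    ((act v 0 = 0 ∧ act v 1 = 1) ∨ (act v 0 = 1 ∧ act v 1 = 0)) ∧ p ∈ reps ∧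
      (w = u * p * v ∨ w = u * p⁻¹ * v) := by
  have inj : ∀ w, act w 0 ≠ act w 1 := fun w => (act w).injective.ne (by simp)
  rcases Nat.eq_zero_or_pos n with hn | hn
  · subst hn
    refine ⟨[], by simp, fun w => Or.inl ?_⟩
    have := inj w
    have k0 := (act w 0).2
    have k1 := (act w 1).2
    simp only [Fin.ext_iff, ne_eq] at this ⊢
    simp only [Fin.val_zero, Fin.val_one]
    omega
  obtain ⟨c, hc⟩ := h 2 (by omega) (by omega) ![0, 1] ![1, 2] (injective_two (by simp))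
    (injective_two (two_ne hn).2.symm)
  have hc0 : act c 0 = 1 := hc 0
  have hc1 : act c 1 = 2 := hc 1
  -- the pair `{1, 2}` turned back
  obtain ⟨d, hd, hd'⟩ : ∃ d : List W, d.length ≤ (if n = 1 then 0 else 1) ∧
      ∀ x y : Fin (n + 2), x ≠ 0 → x ≠ 1 → y ≠ 0 → y ≠ 1 → x ≠ y → ∃ p ∈ d, ∃ u,
        (act u 0 = 0 ∧ act u 1 = 1) ∧ act (u * p) 0 = x ∧ act (u * p) 1 = y := by
    by_cases h1 : n = 1
    · refine ⟨[], by simp, fun x y a b a' b' hxy => absurd ?_ hxy⟩
      have := ne_of_lt_two a b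
      have := ne_of_lt_two a' b'
      have := x.2
      have := y.2
      exact Fin.ext (by omega)
    have e3 : (⟨3, by omega⟩ : Fin (n + 2)) ≠ 0 ∧ (⟨3, by omega⟩ : Fin (n + 2)) ≠ 1 ∧
        (2 : Fin (n + 2)) ≠ ⟨3, by omega⟩ := by
      refine ⟨?_, ?_, ?_⟩ <;> intro h <;> have := congrArg Fin.val h <;>
        simp only [val_two hn, Fin.val_zero, Fin.val_one] at this <;> omega
    obtain ⟨p, hp⟩ := h 2 (by omega) (by omega) ![0, 1] ![2, ⟨3, by omega⟩] (injective_two (by simp))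
      (injective_two e3.2.2)
    refine ⟨[p], by rw [if_neg h1]; simp, fun x y a b a' b' hxy => ⟨p, by simp, ?_⟩⟩
    obtain ⟨u, hu⟩ := h 4 le_rfl (by omega) ![0, 1, 2, ⟨3, by omega⟩] ![0, 1, x, y]
      (injective_four (by simp) (two_ne hn).1.symm e3.1.symm (two_ne hn).2.symm e3.2.1.symm e3.2.2)
      (injective_four (by simp) a.symm a'.symm b.symm b'.symm hxy)
    have p0 : act p 0 = 2 := hp 0
    have p1 : act p 1 = (⟨3, by omega⟩ : Fin (n + 2)) := hp 1
    refine ⟨u, ⟨hu 0, hu 1⟩, ?_, ?_⟩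
    · rw [map_mul, Perm.mul_apply, p0]; exact hu 2
    · rw [map_mul, Perm.mul_apply, p1]; exact hu 3
  refine ⟨c :: d, ?_, fun w => ?_⟩
  · rw [List.length_cons]
    split_ifs at hd <;> omega
  by_cases hw : (act w 0 = 0 ∧ act w 1 = 1) ∨ (act w 0 = 1 ∧ act w 1 = 0)
  · exact Or.inl hw
  right
  -- it suffices to match the pair
  suffices key : ∃ u p, ((act u 0 = 0 ∧ act u 1 = 1) ∨ (act u 0 = 1 ∧ act u 1 = 0)) ∧ p ∈ c :: d ∧
      ∃ q, (q = p ∨ q = p⁻¹) ∧ ((act (u * q) 0 = act w 0 ∧ act (u * q) 1 = act w 1) ∨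
        (act (u * q) 0 = act w 1 ∧ act (u * q) 1 = act w 0)) by
    obtain ⟨u, p, hu, hp, q, hq, hm⟩ := key
    refine ⟨u, (u * q)⁻¹ * w, p, hu, ?_, hp, ?_⟩
    · simp only [map_mul, map_inv, Perm.mul_apply, Perm.inv_eq_iff_eq]
      rcases hm with ⟨e0, e1⟩ | ⟨e0, e1⟩
      · left; rw [map_mul, Perm.mul_apply] at e0 e1; simp [e0, e1]
      · right; rw [map_mul, Perm.mul_apply] at e0 e1; simp [e0, e1]
    · rcases hq with rfl | rfl
      · exact Or.inl (mul_inv_cancel_left _ _).symm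
      · exact Or.inr (mul_inv_cancel_left _ _).symm
  have hne := inj w
  set a := act w 0
  set b := act w 1
  have adj : ∀ y : Fin (n + 2), y ≠ 0 → y ≠ 1 → ∃ u, (act u 0 = 0 ∧ act u 1 = 1) ∧
      act (u * c) 0 = 1 ∧ act (u * c) 1 = y := fun y a0 a1 => by
    obtain ⟨u, u0, u1, u2⟩ := h.three a0 a1
    exact ⟨u, ⟨u0, u1⟩, by rw [map_mul, Perm.mul_apply, hc0, u1],
      by rw [map_mul, Perm.mul_apply, hc1, u2]⟩
  have adj' : ∀ y : Fin (n + 2), y ≠ 0 → y ≠ 1 → ∃ u, (act u 0 = 0 ∧ act u 1 = 1) ∧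
      act (u * c⁻¹) 0 = y ∧ act (u * c⁻¹) 1 = 0 := fun y a0 a1 => by
    have i1 : act c⁻¹ 1 = 0 := by rw [map_inv, Perm.inv_eq_iff_eq, hc0]
    have i0 : act c⁻¹ 0 ≠ 0 ∧ act c⁻¹ 0 ≠ 1 := by
      constructor <;> intro h <;> rw [map_inv, Perm.inv_eq_iff_eq] at h
      · rw [hc0] at h; simp at h
      · rw [hc1] at h; exact (two_ne hn).1 h.symm
    have hn3 : 3 ≤ n + 2 := by omega
    obtain ⟨u, hu⟩ := h 3 (by omega) hn3 ![0, 1, act c⁻¹ 0] ![0, 1, y]
      (injective_three (by simp) i0.1.symm i0.2.symm) (injective_three (by simp) a0.symm a1.symm)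
    refine ⟨u, ⟨hu 0, hu 1⟩, ?_, ?_⟩
    · rw [map_mul, Perm.mul_apply]; exact hu 2
    · rw [map_mul, Perm.mul_apply, i1]; exact hu 0
  by_cases a0 : a = 0
  · have b0 : b ≠ 0 := fun h => hne (a0.trans h.symm)
    have b1 : b ≠ 1 := fun h => hw (Or.inl ⟨a0, h⟩)
    obtain ⟨u, hu, e0, e1⟩ := adj' b b0 b1
    exact ⟨u, c, Or.inl hu, by simp, _, Or.inr rfl, Or.inr ⟨e0, by rw [e1, a0]⟩⟩
  by_cases a1 : a = 1
  · have b1 : b ≠ 1 := fun h => hne (a1.trans h.symm)
    have b0 : b ≠ 0 := fun h => hw (Or.inr ⟨a1, h⟩)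
    obtain ⟨u, hu, e0, e1⟩ := adj b b0 b1
    exact ⟨u, c, Or.inl hu, by simp, _, Or.inl rfl, Or.inl ⟨by rw [e0, a1], e1⟩⟩
  by_cases b0 : b = 0
  · obtain ⟨u, hu, e0, e1⟩ := adj' a a0 a1
    exact ⟨u, c, Or.inl hu, by simp, _, Or.inr rfl, Or.inl ⟨e0, by rw [e1, b0]⟩⟩
  by_cases b1 : b = 1
  · obtain ⟨u, hu, e0, e1⟩ := adj a a0 a1
    exact ⟨u, c, Or.inl hu, by simp, _, Or.inl rfl, Or.inr ⟨by rw [e0, b1], e1⟩⟩
  obtain ⟨p, hp, u, hu, e0, e1⟩ := hd' a b a0 a1 b0 b1 hne
  exact ⟨u, p, Or.inl hu, List.mem_cons_of_mem _ hp, p, Or.inl rfl, Or.inl ⟨e0, e1⟩⟩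

end Generic

section Sym

variable {n : ℕ}

theorem mem_closure_subtype {α : Type*} [Fintype α] [DecidableEq α] {p : α → Prop} [DecidablePred p]
    {s : Fin 2 → Perm {x // p x}} (hs : Subgroup.closure (Set.range s) = ⊤) {w : Perm α}
    (hw : ∀ x, ¬p x → w x = x) :
    w ∈ Subgroup.closure (Set.range fun i => Perm.ofSubtype (s i)) := by
  have h1 : ∀ x, p (w x) ↔ p x := by
    intro x
    constructor
    · intro h
      by_contra hx
      rw [hw x hx] at h
      exact hx h
    · intro h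
      by_contra hx
      exact hx (by rw [w.injective (hw _ hx)]; exact h)
  rw [show (Set.range fun i => Perm.ofSubtype (s i)) = Perm.ofSubtype '' Set.range s from
    Set.range_comp _ _, ← MonoidHom.map_closure, hs]
  refine ⟨w.subtypePerm h1, trivial, Perm.ofSubtype_subtypePerm h1 fun x hx => ?_⟩
  by_contra h
  exact hx (hw x h)

/-- The plan for the symmetric group. -/
theorem exists_plan_sym (n : ℕ) : ∃ P : WPlan n (Perm (Fin (n + 2))), P.stab.length ≤ 2 ∧
    P.pair.length ≤ 3 ∧ P.reps.length ≤ min n 2 ∧ P.all.length ≤ n + 1 ∧ P.tri.length = 0 ∧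
    P.orthK.length ≤ n := by
  classical
  have hext : Ext (MonoidHom.id (Perm (Fin (n + 2)))) := fun m _ _ f g hf hg =>
    exists_perm_ext hf hg
  obtain ⟨reps, hreps, hreps'⟩ := hext.exists_reps
  obtain ⟨s, hs⟩ := exists_two_gens_perm {x : Fin (n + 2) // x ≠ 0}
  obtain ⟨t, ht⟩ := exists_two_gens_perm {x : Fin (n + 2) // x ≠ 0 ∧ x ≠ 1}
  refine ⟨{
    act := MonoidHom.id _
    two := hext.two
    stab := List.ofFn fun i => Perm.ofSubtype (s i)
    stab_mem := ?_
    stab_gen := ?_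
    pair := swap 0 1 :: List.ofFn fun i => Perm.ofSubtype (t i)
    pair_mem := ?_
    pair_gen := ?_
    pair_trans := fun l h0 h1 => ?_
    reps := reps
    reps_spec := hreps'
    all := List.ofFn fun i : Fin (n + 1) => swap i.castSucc i.succ
    tri := []
    tri_pos := by simp
    tri_act := by simp
    gen := ?_
    orthK := List.ofFn fun i : Fin n => Fin.castLE (by omega) i
    orth_spec := ?_ }, by simp, by simp, hreps, by simp, by simp, by simp⟩
  · intro a ha
    simp only [List.mem_ofFn] at ha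
    obtain ⟨i, rfl⟩ := ha
    exact Perm.ofSubtype_apply_of_not_mem _ (by simp)
  · intro w hw
    have hw' : w 0 = 0 := hw
    have := mem_closure_subtype hs (w := w) fun x hx => by
      simp only [ne_eq, not_not] at hx
      rw [hx, hw']
    refine Subgroup.closure_mono ?_ this
    rintro y ⟨i, rfl⟩
    exact List.mem_ofFn.2 ⟨i, rfl⟩
  · intro a ha
    simp only [List.mem_cons, List.mem_ofFn] at ha
    rcases ha with rfl | ⟨i, rfl⟩
    · exact Or.inr ⟨by simp, by simp⟩
    · exact Or.inl ⟨Perm.ofSubtype_apply_of_not_mem _ (by simp),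
        Perm.ofSubtype_apply_of_not_mem _ (by simp)⟩
  · intro w hw
    set H := Subgroup.closure {x | x ∈ swap (0 : Fin (n + 2)) 1 :: List.ofFn fun i => Perm.ofSubtype (t i)}
    have key : ∀ v : Perm (Fin (n + 2)), v 0 = 0 → v 1 = 1 → v ∈ H := fun v h0 h1 => by
      refine Subgroup.closure_mono ?_ (mem_closure_subtype ht (w := v) fun x hx => ?_)
      · rintro y ⟨i, rfl⟩; exact List.mem_cons_of_mem _ (List.mem_ofFn.2 ⟨i, rfl⟩)
      · by_cases hx0 : x = 0
        · rw [hx0, h0]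
        · rw [show x = 1 by by_contra h; exact hx ⟨hx0, h⟩, h1]
    rcases hw with ⟨h0, h1⟩ | ⟨h0, h1⟩
    · exact key w h0 h1
    · have hs : swap (0 : Fin (n + 2)) 1 ∈ H := Subgroup.subset_closure (by simp)
      have := key (swap 0 1 * w) (by
        show swap 0 1 (w 0) = 0
        rw [show w 0 = 1 from h0, swap_apply_right]) (by
        show swap 0 1 (w 1) = 1
        rw [show w 1 = 0 from h1, swap_apply_left])
      have := H.mul_mem hs this
      rwa [← mul_assoc, swap_mul_self, one_mul] at this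
  · obtain ⟨w, w0, w1, w2⟩ := hext.three h0 h1
    exact ⟨w, Or.inl ⟨w0, w1⟩, w2⟩
  · intro U hU _
    rw [eq_top_iff]
    intro σ _
    have hσ : σ ∈ Submonoid.closure (Set.range fun i : Fin (n + 1) => swap i.castSucc i.succ) := by
      rw [Perm.mclosure_swap_castSucc_succ]; trivial
    refine (Submonoid.closure_le (S := U.toSubmonoid)).2 ?_ hσ
    rintro y ⟨i, rfl⟩
    exact hU _ (List.mem_ofFn.2 ⟨i, rfl⟩)
  · intro k hk
    left
    simp only [List.mem_ofFn]
    exact ⟨⟨k, by omega⟩, Fin.ext rfl⟩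

end Sym

section Alt

variable {n : ℕ}

/-- A transposition or nothing, according to a sign. -/
def flip01 (n : ℕ) : ℤˣ →* Perm (Fin (n + 2)) where
  toFun u := if u = 1 then 1 else swap 0 1
  map_one' := by simp
  map_mul' u v := by
    rcases Int.units_eq_one_or u with rfl | rfl <;> rcases Int.units_eq_one_or v with rfl | rfl <;>
      simp

/-- The stabiliser of the first two planes in the alternating group. -/
noncomputable def pairHom (n : ℕ) :
    Perm {x : Fin (n + 2) // x ≠ 0 ∧ x ≠ 1} →* alternatingGroup (Fin (n + 2)) :=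
  ({ toFun := fun σ => Perm.ofSubtype σ * flip01 n (Perm.sign σ)
     map_one' := by simp
     map_mul' := fun σ τ => by
       have hc : Commute (Perm.ofSubtype τ) (flip01 n (Perm.sign σ)) := by
         rcases Int.units_eq_one_or (Perm.sign σ) with h | h <;> rw [h]
         · simp
         · refine Perm.Disjoint.commute fun x => ?_
           show _ ∨ (if (-1 : ℤˣ) = 1 then (1 : Perm (Fin (n + 2))) else swap 0 1) x = x
           rw [if_neg (by decide)]
           by_cases hx : x ≠ 0 ∧ x ≠ 1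
           · exact Or.inr (swap_apply_of_ne_of_ne hx.1 hx.2)
           · exact Or.inl (Perm.ofSubtype_apply_of_not_mem _ hx)
       rw [map_mul, map_mul, map_mul]
       simp only [mul_assoc]
       rw [← mul_assoc (Perm.ofSubtype τ), hc.eq, mul_assoc] } :
    Perm {x : Fin (n + 2) // x ≠ 0 ∧ x ≠ 1} →* Perm (Fin (n + 2))).codRestrict _ fun σ => by
    rw [mem_alternatingGroup]
    show Perm.sign (Perm.ofSubtype σ * flip01 n (Perm.sign σ)) = 1
    rw [map_mul, Perm.sign_ofSubtype]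
    rcases Int.units_eq_one_or (Perm.sign σ) with h | h <;> simp [h, flip01]

theorem pairHom_coe (σ : Perm {x : Fin (n + 2) // x ≠ 0 ∧ x ≠ 1}) :
    (pairHom n σ : Perm (Fin (n + 2))) = Perm.ofSubtype σ * flip01 n (Perm.sign σ) := rfl

theorem pairHom_stab (σ : Perm {x : Fin (n + 2) // x ≠ 0 ∧ x ≠ 1}) :
    ((pairHom n σ : Perm (Fin (n + 2))) 0 = 0 ∧ (pairHom n σ : Perm (Fin (n + 2))) 1 = 1) ∨
      ((pairHom n σ : Perm (Fin (n + 2))) 0 = 1 ∧ (pairHom n σ : Perm (Fin (n + 2))) 1 = 0) := by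
  have h0 : Perm.ofSubtype σ (0 : Fin (n + 2)) = 0 := Perm.ofSubtype_apply_of_not_mem _ (by simp)
  have h1 : Perm.ofSubtype σ (1 : Fin (n + 2)) = 1 := Perm.ofSubtype_apply_of_not_mem _ (by simp)
  rw [pairHom_coe]
  rcases Int.units_eq_one_or (Perm.sign σ) with h | h <;> rw [h]
  · left; simp [h0, h1]
  · right; simp [flip01, h0, h1]

theorem pairHom_surj {w : alternatingGroup (Fin (n + 2))}
    (hw : ((w : Perm (Fin (n + 2))) 0 = 0 ∧ (w : Perm (Fin (n + 2))) 1 = 1) ∨
      ((w : Perm (Fin (n + 2))) 0 = 1 ∧ (w : Perm (Fin (n + 2))) 1 = 0)) :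
    ∃ σ, pairHom n σ = w := by
  have key : ∀ v : Perm (Fin (n + 2)), v 0 = 0 → v 1 = 1 →
      ∃ σ : Perm {x : Fin (n + 2) // x ≠ 0 ∧ x ≠ 1}, Perm.ofSubtype σ = v := by
    intro v h0 h1
    have hfix : ∀ x, ¬(x ≠ 0 ∧ x ≠ 1) → v x = x := fun x hx => by
      by_cases hx0 : x = 0
      · rw [hx0, h0]
      · rw [show x = 1 by by_contra h; exact hx ⟨hx0, h⟩, h1]
    refine ⟨v.subtypePerm fun x => ?_, Perm.ofSubtype_subtypePerm _ fun x hx => ?_⟩
    · constructor
      · intro h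
        by_contra hx
        rw [hfix x hx] at h
        exact hx h
      · intro h
        by_contra hx
        exact hx (by rw [v.injective (hfix _ hx)]; exact h)
    · by_contra h
      exact hx (hfix x h)
  have hsign : Perm.sign (w : Perm (Fin (n + 2))) = 1 := mem_alternatingGroup.1 w.2
  rcases hw with ⟨h0, h1⟩ | ⟨h0, h1⟩
  · obtain ⟨σ, hσ⟩ := key w h0 h1
    refine ⟨σ, Subtype.ext ?_⟩
    rw [pairHom_coe, ← Perm.sign_ofSubtype σ, hσ, hsign, map_one, mul_one]
  · obtain ⟨σ, hσ⟩ := key ((w : Perm (Fin (n + 2))) * swap 0 1)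
      (by rw [Perm.mul_apply, swap_apply_left, h1]) (by rw [Perm.mul_apply, swap_apply_right, h0])
    refine ⟨σ, Subtype.ext ?_⟩
    rw [pairHom_coe, ← Perm.sign_ofSubtype σ, hσ, map_mul, hsign, sign_swap (by simp), one_mul]
    simp [flip01, mul_assoc]

/-- Two generators of an alternating group, in the Carmichael form. -/
theorem exists_two_alt (M : ℕ) : ∃ a b : alternatingGroup (Fin 2 ⊕ Fin (M + 1)),
    Subgroup.closure ({a, b} : Set (alternatingGroup (Fin 2 ⊕ Fin (M + 1)))) = ⊤ := by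
  refine ⟨zA 0, twist (finRotate (M + 1)), ?_⟩
  set H := Subgroup.closure
    ({zA 0, twist (finRotate (M + 1))} : Set (alternatingGroup (Fin 2 ⊕ Fin (M + 1))))
  have ht : twist (finRotate (M + 1)) ∈ H := Subgroup.subset_closure (by simp)
  have hz : ∀ i : ℕ, ∀ hi : i < M + 1, zA (⟨i, hi⟩ : Fin (M + 1)) ∈ H := by
    intro i
    induction i with
    | zero => exact fun _ => Subgroup.subset_closure (by simp)
    | succ i ih =>
      intro hi
      have h1 := mul_mem (mul_mem ht (ih (by omega))) (inv_mem ht)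
      have e : finRotate (M + 1) ⟨i, by omega⟩ = (⟨i + 1, hi⟩ : Fin (M + 1)) :=
        finRotate_of_lt (by omega)
      rcases twist_z_mem (finRotate (M + 1)) (⟨i, by omega⟩ : Fin (M + 1)) with h | h <;>
        rw [h, e] at h1
      · exact h1
      · simpa using inv_mem h1
  rw [eq_top_iff, ← zA_gen, Subgroup.closure_le]
  rintro _ ⟨i, rfl⟩
  exact hz i i.2

theorem exists_stab_gens (hn : 2 ≤ n) : ∃ A : List (alternatingGroup (Fin (n + 2))), A.length ≤ 2 ∧
    (∀ a ∈ A, (a : Perm (Fin (n + 2))) 0 = 0) ∧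
    ∀ w : alternatingGroup (Fin (n + 2)), (w : Perm (Fin (n + 2))) 0 = 0 →
      w ∈ Subgroup.closure {x | x ∈ A} := by
  classical
  obtain ⟨M, rfl⟩ : ∃ M, n = M + 2 := ⟨n - 2, by omega⟩
  have hc : Fintype.card (Fin 2 ⊕ Fin (M + 1)) = Fintype.card {x : Fin (M + 2 + 2) // x ≠ 0} := by
    rw [Fintype.card_sum, Fintype.card_fin, Fintype.card_fin, Fintype.card_subtype_compl,
      Fintype.card_fin, Fintype.card_subtype_eq]
    omega
  let eqv := Fintype.equivOfCardEq hc
  let η : alternatingGroup (Fin 2 ⊕ Fin (M + 1)) →* alternatingGroup (Fin (M + 2 + 2)) :=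
    ((Perm.ofSubtype.comp eqv.permCongrHom.toMonoidHom).comp
      (alternatingGroup (Fin 2 ⊕ Fin (M + 1))).subtype).codRestrict _ fun g => by
      rw [mem_alternatingGroup]
      show Perm.sign (Perm.ofSubtype (eqv.permCongr (g : Perm (Fin 2 ⊕ Fin (M + 1))))) = 1
      rw [Perm.sign_ofSubtype, Perm.sign_permCongr, mem_alternatingGroup.1 g.2]
  have hη : ∀ g, (η g : Perm (Fin (M + 2 + 2))) =
      Perm.ofSubtype (eqv.permCongr (g : Perm (Fin 2 ⊕ Fin (M + 1)))) := fun g => rfl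
  obtain ⟨a, b, hab⟩ := exists_two_alt M
  refine ⟨[η a, η b], by simp, ?_, fun w hw => ?_⟩
  · intro x hx
    simp only [List.mem_cons, List.not_mem_nil, or_false] at hx
    rcases hx with rfl | rfl <;> rw [hη] <;> exact Perm.ofSubtype_apply_of_not_mem _ (by simp)
  have himg : (Subgroup.closure ({a, b} : Set (alternatingGroup (Fin 2 ⊕ Fin (M + 1))))).map η =
      Subgroup.closure {x | x ∈ [η a, η b]} := by
    rw [MonoidHom.map_closure]
    congr 1
    ext y
    simp [eq_comm]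
  rw [← himg, hab]
  have h1 : ∀ x, (w : Perm (Fin (M + 2 + 2))) x ≠ 0 ↔ x ≠ 0 := fun x => by
    constructor
    · intro h hx; exact h (by rw [hx, hw])
    · intro h hx
      exact h ((w : Perm (Fin (M + 2 + 2))).injective (hx.trans hw.symm))
  set σ := (w : Perm (Fin (M + 2 + 2))).subtypePerm (p := fun x => x ≠ 0) h1 with hσ
  have hσ' : Perm.ofSubtype σ = (w : Perm (Fin (M + 2 + 2))) :=
    Perm.ofSubtype_subtypePerm (p := fun x => x ≠ 0) h1 fun x hx h0 => hx (by rw [h0, hw])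
  have hg : eqv.symm.permCongr σ ∈ alternatingGroup (Fin 2 ⊕ Fin (M + 1)) := by
    rw [mem_alternatingGroup, Perm.sign_permCongr, ← Perm.sign_ofSubtype, hσ']
    exact mem_alternatingGroup.1 w.2
  refine ⟨⟨_, hg⟩, trivial, Subtype.ext ?_⟩
  rw [hη, ← hσ']
  congr 1
  ext x
  simp [Equiv.permCongr_apply]

theorem alt_gen_of_adjacent (U : Subgroup (alternatingGroup (Fin (n + 2))))
    (h : ∀ k (hk : k + 2 < n + 2), ∀ c : alternatingGroup (Fin (n + 2)),
      (c : Perm (Fin (n + 2))) = swap ⟨k, by omega⟩ ⟨k + 1, by omega⟩ *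
        swap ⟨k + 1, by omega⟩ ⟨k + 2, hk⟩ → c ∈ U) : U = ⊤ := by
  classical
  set H := U.map (alternatingGroup (Fin (n + 2))).subtype with hH
  let s : Fin (n + 1) → Perm (Fin (n + 2)) := fun i => swap i.castSucc i.succ
  have hs2 : ∀ i, s i * s i = 1 := fun i => swap_mul_self _ _
  have hsgn : ∀ i, Perm.sign (s i) = -1 := fun i => sign_swap (Fin.castSucc_lt_succ (i := i)).ne
  have hadj : ∀ i (hi : i + 1 < n + 1), s ⟨i, by omega⟩ * s ⟨i + 1, hi⟩ ∈ H := by
    intro i hi
    have hm : s ⟨i, by omega⟩ * s ⟨i + 1, hi⟩ ∈ alternatingGroup (Fin (n + 2)) :=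
      mem_alternatingGroup.2 (by rw [map_mul, hsgn, hsgn]; rfl)
    exact ⟨⟨_, hm⟩, h i (by omega) _ rfl, rfl⟩
  have h0 : ∀ i (hi : i < n + 1), s ⟨0, by omega⟩ * s ⟨i, hi⟩ ∈ H := by
    intro i
    induction i with
    | zero => intro hi; rw [hs2]; exact one_mem _
    | succ i ih =>
      intro hi
      have := mul_mem (ih (by omega)) (hadj i hi)
      rwa [mul_assoc, ← mul_assoc (s ⟨i, _⟩), hs2, one_mul] at this
  have hall : ∀ i j, s i * s j ∈ H := by
    intro i j
    have := mul_mem (inv_mem (h0 i i.2)) (h0 j j.2)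
    rwa [mul_inv_rev, show (s i)⁻¹ = s i from swap_inv _ _,
      show (s ⟨0, by omega⟩)⁻¹ = s ⟨0, by omega⟩ from swap_inv _ _, mul_assoc,
      ← mul_assoc (s ⟨0, _⟩), hs2, one_mul] at this
  have key : ∀ σ : Perm (Fin (n + 2)), (Perm.sign σ = 1 → σ ∈ H) ∧
      (Perm.sign σ = -1 → s ⟨0, by omega⟩ * σ ∈ H) := by
    intro σ
    have hσ : σ ∈ Submonoid.closure (Set.range s) := by
      rw [Perm.mclosure_swap_castSucc_succ]; trivial
    induction hσ using Submonoid.closure_induction_left with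
    | one => exact ⟨fun _ => one_mem _, fun h => absurd h (by simp)⟩
    | mul_left x hx y _ ih =>
      obtain ⟨i, rfl⟩ := hx
      constructor <;> intro h <;> rw [map_mul, hsgn] at h
      · have := mul_mem (hall i ⟨0, by omega⟩) (ih.2 (by simpa [neg_eq_iff_eq_neg] using h))
        rwa [mul_assoc, ← mul_assoc (s ⟨0, _⟩), hs2, one_mul] at this
      · have := mul_mem (hall ⟨0, by omega⟩ i) (ih.1 (by simpa using h))
        rwa [mul_assoc] at this
  rw [eq_top_iff]
  intro w _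
  obtain ⟨v, hv, hvw⟩ := (key w).1 (mem_alternatingGroup.1 w.2)
  exact (Subtype.ext hvw : v = w) ▸ hv

/-- The plan for the alternating group. -/
theorem exists_plan_alt (hn : 4 ≤ n) :
    ∃ P : WPlan n (alternatingGroup (Fin (n + 2))), P.stab.length ≤ 2 ∧
    P.pair.length ≤ 2 ∧ P.reps.length ≤ 2 ∧ P.all.length = 0 ∧ P.tri.length ≤ 1 ∧
    P.orthK.length ≤ 1 := by
  classical
  set act := (alternatingGroup (Fin (n + 2))).subtype
  have hext : Ext act := by
    intro m hm hmn f g hf hg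
    by_cases h4 : m + 2 ≤ n + 2
    · exact exists_even_ext (by rw [Fintype.card_fin]; exact h4) hf hg
    · exfalso; omega
  obtain ⟨reps, hreps, hreps'⟩ := hext.exists_reps
  obtain ⟨A, hA, hA0, hAg⟩ := exists_stab_gens (n := n) (by omega)
  obtain ⟨t, ht⟩ := exists_two_gens_perm {x : Fin (n + 2) // x ≠ 0 ∧ x ≠ 1}
  have hn0 : 0 < n := by omega
  have v2 := val_two (n := n) hn0
  let c : alternatingGroup (Fin (n + 2)) := ⟨swap 0 1 * swap 1 2, mem_alternatingGroup.2 (by
    rw [map_mul, sign_swap (by simp), sign_swap (two_ne hn0).2.symm]; rfl)⟩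
  refine ⟨{
    act := act
    two := hext.two
    stab := A
    stab_mem := hA0
    stab_gen := hAg
    pair := List.ofFn fun i => pairHom n (t i)
    pair_mem := ?_
    pair_gen := ?_
    pair_trans := fun l h0 h1 => ?_
    reps := reps
    reps_spec := hreps'
    all := []
    tri := [c]
    tri_pos := fun _ _ => hn0
    tri_act := ?_
    gen := ?_
    orthK := [0]
    orth_spec := ?_ }, hA, by simp, hreps.trans (min_le_right _ _), by simp, by simp, by simp⟩
  · intro a ha
    simp only [List.mem_ofFn] at ha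
    obtain ⟨i, rfl⟩ := ha
    exact pairHom_stab _
  · intro w hw
    obtain ⟨σ, rfl⟩ := pairHom_surj hw
    have : pairHom n σ ∈ (Subgroup.closure (Set.range t)).map (pairHom n) :=
      Subgroup.mem_map_of_mem _ (by rw [ht]; trivial)
    rw [MonoidHom.map_closure, ← Set.range_comp] at this
    refine Subgroup.closure_mono ?_ this
    rintro y ⟨i, rfl⟩
    exact List.mem_ofFn.2 ⟨i, rfl⟩
  · obtain ⟨w, w0, w1, w2⟩ := hext.three h0 h1
    exact ⟨w, Or.inl ⟨w0, w1⟩, w2⟩
  · intro x hx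
    rw [List.mem_singleton] at hx
    subst hx
    rfl
  · intro U _ hU
    refine alt_gen_of_adjacent U fun k hk x hx => ?_
    obtain ⟨u, hu⟩ := hext.triple hk
    have := hU c (by simp) u k hu
    obtain ⟨u0, u1, u2⟩ := hu
    convert this using 1
    refine Subtype.ext ?_
    have e0 : (u : Perm (Fin (n + 2))) 0 = ⟨k, by omega⟩ := Fin.ext u0
    have e1 : (u : Perm (Fin (n + 2))) 1 = ⟨k + 1, by omega⟩ := Fin.ext u1
    have e2 : (u : Perm (Fin (n + 2))) 2 = ⟨k + 2, hk⟩ := Fin.ext u2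
    rw [hx]
    show _ = (u : Perm (Fin (n + 2))) * (swap 0 1 * swap 1 2) * (u : Perm (Fin (n + 2)))⁻¹
    rw [← e0, ← e1, ← e2, Equiv.swap_apply_apply, Equiv.swap_apply_apply]
    group
  · intro k hk
    exact Or.inr ⟨by simp, hext.triple hk⟩

end Alt

section Presentations

/-- The Coxeter presentation. -/
theorem hasPres_perm (m : ℕ) : HasPres (Perm (Fin (m + 1))) m (m * m) := by
  classical
  let M := CoxeterMatrix.A m
  let R : Finset (FreeGroup (Fin m)) := Finset.univ.image (Function.uncurry M.relation)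
  have hR : (↑R : Set (FreeGroup (Fin m))) = M.relationsSet := by
    simp [R, CoxeterMatrix.relationsSet]
  have hc : R.card ≤ m * m := Finset.card_image_le.trans (by simp)
  let e : M.Group ≃* Perm (Fin (m + 1)) := (Cfsg.Agent.Arith.CoxeterA.permSystem m).mulEquiv.symm
  have e2 : PresentedGroup (↑R : Set (FreeGroup (Fin m))) ≃* Perm (Fin (m + 1)) := by
    rw [hR]; exact e
  exact HasPres.of_presentation hc e2

/-- Six generators exactly, for at least six points. -/
theorem hasPres_alt_six {N : ℕ} (hN : 6 ≤ N) : HasPres (alternatingGroup (Fin N)) 6 32 := by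
  classical
  obtain ⟨m, rfl⟩ : ∃ m, N = 2 + m := ⟨N - 2, by omega⟩
  refine HasPres.of_mulEquiv ?_ (Equiv.altCongrHom finSumFinEquiv)
  obtain ⟨p, hp, hlt, hle⟩ := Nat.exists_prime_lt_and_le_two_mul (m / 2) (by omega)
  haveI : Fact p.Prime := ⟨hp⟩
  let e1 : ZMod p ↪ Fin m := ⟨fun x => ⟨x.val, by have := x.val_lt; omega⟩, fun x y h => by
    simpa [Fin.ext_iff, (ZMod.val_injective p).eq_iff] using h⟩
  let e2 : ZMod p ↪ Fin m := ⟨fun x => ⟨x.val + (m - p), by have := x.val_lt; omega⟩, fun x y h => by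
    simpa [Fin.ext_iff, (ZMod.val_injective p).eq_iff] using h⟩
  refine (hasPres_glue (hasPres_window p (by omega)) e1 e2 fun i => ?_).mono (by norm_num)
  rcases Nat.lt_or_ge i.val p with h | h
  · exact Or.inl ⟨(i.val : ZMod p), Fin.ext (ZMod.val_natCast_of_lt h)⟩
  · refine Or.inr ⟨((i.val - (m - p) : ℕ) : ZMod p), Fin.ext ?_⟩
    show ((i.val - (m - p) : ℕ) : ZMod p).val + (m - p) = i.val
    rw [ZMod.val_natCast_of_lt (by have := i.isLt; omega)]
    omega

end Presentations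

end Cfsg.Agent.H68.SpPres
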