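import Cfsg.Agent.H68.SpPres.Groups
import Cfsg.Agent.Symplectic.Center
import Cfsg.Agent.Linear.TwoSL

/-!
The bounds for the presentations of `Sp_{2n}(q)` and `PSp_{2n}(q)`.
-/

set_option autoImplicit false
set_option linter.unusedSectionVars false
set_option linter.unusedSimpArgs false

namespace Cfsg.Agent.H68.SpPres

open Cfsg.Agent.H99.BoundedPres Cfsg.Agent.H99.ShortPres Cfsg.Agent.Symplectic
open Cfsg.Agent.H68.SpAmalgam (Sp)

theorem lift_castSucc {G : Type*} [Group G] {k : ℕ} (g : Fin (k + 1) → G) (w : FreeGroup (Fin k)) :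
    FreeGroup.lift g (FreeGroup.lift (fun i => FreeGroup.of i.castSucc) w) =
      FreeGroup.lift (fun i => g i.castSucc) w := by
  refine DFunLike.congr_fun (f := (FreeGroup.lift g).comp (FreeGroup.lift fun i => FreeGroup.of i.castSucc))
    (FreeGroup.ext_hom _ _ fun i => ?_) w
  simp

/-- A further generator at the cost of a relation. -/
theorem hasPres_pad {T : Type*} [Group T] {k l : ℕ} (h : HasPres T k l) :
    HasPres T (k + 1) (l + 1) := by
  classical
  obtain ⟨f, rels, hc, hgen, hsat, huniv⟩ := h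
  let i0 : FreeGroup (Fin k) →* FreeGroup (Fin (k + 1)) :=
    FreeGroup.lift fun i => FreeGroup.of i.castSucc
  refine ⟨Fin.snoc f 1, insert (FreeGroup.of (Fin.last k)) (rels.image i0),
    (Finset.card_insert_le _ _).trans (Nat.add_le_add_right (Finset.card_image_le.trans hc) 1), ?_,
    fun r hr => ?_, fun G _ g hg => ?_⟩
  · rw [eq_top_iff, ← hgen]
    refine Subgroup.closure_mono ?_
    rintro _ ⟨i, rfl⟩
    exact ⟨i.castSucc, by simp⟩
  · rcases Finset.mem_insert.1 hr with rfl | hr
    · simp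
    · obtain ⟨r, hr', rfl⟩ := Finset.mem_image.1 hr
      rw [lift_castSucc]
      simpa using hsat r hr'
  · obtain ⟨φ, hφ⟩ := huniv G (fun i => g i.castSucc) fun r hr => by
      rw [← lift_castSucc]
      exact hg _ (Finset.mem_insert_of_mem (Finset.mem_image_of_mem _ hr))
    refine ⟨φ, fun i => ?_⟩
    induction i using Fin.lastCases with
    | last =>
      have := hg _ (Finset.mem_insert_self _ _)
      simpa using this.symm
    | cast i => simpa using hφ i

/-- Several further generators. -/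
theorem hasPres_pads {T : Type*} [Group T] {k l : ℕ} (h : HasPres T k l) :
    ∀ d, HasPres T (k + d) (l + d)
  | 0 => h
  | d + 1 => hasPres_pad (hasPres_pads h d)

variable {F : Type*} [Field F]

local notation "SL2" => Matrix.SpecialLinearGroup (Fin 2) F

/-- The presentation of `SL(2)`. -/
theorem hasPres_sl_two [Fintype F] : HasPres SL2 3 9 ∧ (CharP F 2 → HasPres SL2 3 5) := by
  obtain ⟨⟨R, hR, ⟨i⟩⟩, h2⟩ := exists_pres (MonoidHom.id SL2) Function.surjective_id
    (Or.inl Cfsg.Agent.Linear.card_SL_two)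
  refine ⟨HasPres.of_presentation hR i, fun h => ?_⟩
  obtain ⟨R, hR, ⟨i⟩⟩ := h2 h
  exact HasPres.of_presentation hR i

/-- One more relation for the projective group. -/
theorem hasPres_psp [Fintype F] {n k l : ℕ} (hn : 1 ≤ n) (h : HasPres (Sp n F) k l) :
    HasPres (Cfsg.PSp n F) k (l + 1) := by
  let z : Sp n F := scalarElt n ⟨(-1 : F), neg_one_sq⟩
  refine h.quotient (Subgroup.center _) (z := z) ?_
  refine le_antisymm (fun g hg => ?_) ((Subgroup.zpowers_le).2 ?_)
  · obtain ⟨c, hc⟩ := (mem_center_iff g).1 hg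
    rcases sq_eq_one_iff.1 (scalar_sq hn g hc) with h1 | h1
    · have : g = 1 := sp_ext fun v => by simp [hc, h1]
      rw [this]; exact one_mem _
    · have : g = z := sp_ext fun v => by
        rw [hc, show (z : Mat n F).mulVec v = (-1 : F) • v from scalarElt_mulVec _ v, h1]
      rw [this]; exact Subgroup.mem_zpowers _
  · exact (mem_center_iff z).2 ⟨-1, fun v => scalarElt_mulVec _ v⟩

/-- The representatives of the square classes and the corresponding count. -/
theorem exists_classes [Fintype F] :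
    ∃ (ω : Fˣ) (C : List Fˣ) (s : ℕ), (∀ y : Fˣ, y ∈ Subgroup.zpowers ω) ∧
      (∀ c : Fˣ, ∃ c₀ ∈ C, ∃ t : Fˣ, c = c₀ * t ^ 2) ∧ HasPres SL2 3 s ∧
      ((¬∃ a : F, a ≠ 0 ∧ a ≠ 1) → s + C.length ≤ 6) ∧ s + C.length ≤ 11 := by
  classical
  obtain ⟨ω, hω⟩ := IsCyclic.exists_generator (α := Fˣ)
  by_cases h2 : ringChar F = 2
  · haveI : CharP F 2 := ringChar.of_eq h2
    refine ⟨ω, [1], 5, hω, fun c => ?_, hasPres_sl_two.2 inferInstance, fun _ => le_rfl, by simp⟩
    obtain ⟨r, hr⟩ := FiniteField.isSquare_of_char_two h2 (c : F)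
    have hr0 : r ≠ 0 := fun h0 => c.ne_zero (by rw [hr, h0, mul_zero])
    exact ⟨1, by simp, Units.mk0 r hr0, Units.ext (by push_cast; rw [hr]; simp [pow_two])⟩
  · refine ⟨ω, [1, ω], 9, hω, fun c => ?_, hasPres_sl_two.1, fun hF => ?_, le_rfl⟩
    · obtain ⟨k, rfl⟩ := mem_powers_iff_mem_zpowers.mpr (hω c)
      rcases Nat.even_or_odd' k with ⟨t, rfl | rfl⟩
      · exact ⟨1, by simp, ω ^ t, by rw [one_mul, ← pow_mul, mul_comm]⟩
      · exact ⟨ω, by simp, ω ^ t, by
          show ω ^ (2 * t + 1) = _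
          rw [pow_succ', mul_comm 2, pow_mul]⟩
    · exfalso
      refine hF ⟨-1, neg_ne_zero.2 one_ne_zero, ?_⟩
      exact Ring.neg_one_ne_one_of_char_ne_two h2

/-- The number of relations used by a plan. -/
theorem hasPres_of_plan [Fintype F] {n : ℕ} {W : Type} [Group W] {k l : ℕ} (hW : HasPres W k l)
    (P : WPlan n W) {N : ℕ}
    (hN : l + 2 * P.stab.length + 3 + P.pair.length + (if n = 0 then 2 else 3) + P.reps.length +
      P.all.length + P.tri.length + 11 ≤ N)
    (hN2 : l + 2 * P.stab.length + 3 + P.pair.length + (if n = 0 then 2 else 3) + P.reps.length +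
      P.all.length + P.tri.length + P.orthK.length + 6 ≤ N) :
    HasPres (Sp (n + 2) F) (k + 3 + 1) N := by
  classical
  obtain ⟨ω, C, s, hω, hC, hs, h6, h11⟩ := exists_classes (F := F)
  refine (hasPres_sp hW hs P hω C hC).mono ?_
  by_cases hF : ∃ a : F, a ≠ 0 ∧ a ≠ 1
  · rw [orthList, if_pos hF, List.length_nil]
    omega
  · have := h6 hF
    rw [orthList, if_neg hF]
    omega

/-- Few planes. -/
theorem hasPres_small_rank [Fintype F] (n : ℕ) :
    HasPres (Sp (n + 2) F) (n + 1 + 3 + 1)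
      ((n + 1) * (n + 1) + (if n = 0 then 25 else 28 + min n 2 + 2 * n)) := by
  obtain ⟨P, h1, h2, h3, h4, h5, h6⟩ := exists_plan_sym n
  refine hasPres_of_plan (hasPres_perm (n + 1)) P ?_ ?_ <;> split_ifs <;> omega

/-- Many planes. -/
theorem hasPres_large_rank [Fintype F] {n : ℕ} (hn : 4 ≤ n) : HasPres (Sp (n + 2) F) 10 58 := by
  obtain ⟨P, h1, h2, h3, h4, h5, h6⟩ := exists_plan_alt (n := n) hn
  refine hasPres_of_plan (hasPres_alt_six (N := n + 2) (by omega)) P ?_ ?_ <;> split_ifs <;> omega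

theorem hasPres_two [Fintype F] : HasPres (Sp 2 F) 6 35 := by
  have h := hasPres_pad (hasPres_small_rank (F := F) 0)
  exact h.mono (by norm_num)

theorem hasPres_three [Fintype F] : HasPres (Sp 3 F) 8 52 := by
  have h := hasPres_pads (hasPres_small_rank (F := F) 1) 2
  exact h.mono (by norm_num)

theorem hasPres_four_five [Fintype F] {n : ℕ} (hn : n = 4 ∨ n = 5) : HasPres (Sp n F) 9 57 := by
  rcases hn with rfl | rfl
  · have h := hasPres_pads (hasPres_small_rank (F := F) 2) 2
    exact h.mono (by norm_num)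
  · have h := hasPres_pads (hasPres_small_rank (F := F) 3) 1
    exact h.mono (by norm_num)

theorem hasPres_ten [Fintype F] {n : ℕ} (hn : 4 ≤ n) : HasPres (Sp n F) 10 58 := by
  by_cases h : n = 4 ∨ n = 5
  · exact hasPres_pad (hasPres_four_five h)
  · obtain ⟨m, rfl⟩ : ∃ m, n = m + 2 := ⟨n - 2, by omega⟩
    exact hasPres_large_rank (by omega)

/-- Every rank at least two. -/
theorem exists_hasPres [Fintype F] {n : ℕ} (hn : 2 ≤ n) :
    ∃ k, HasPres (Sp n F) k 58 := by
  rcases eq_or_lt_of_le hn with rfl | hn3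
  · exact ⟨6, hasPres_two.mono (by norm_num)⟩
  rcases eq_or_lt_of_le (show 3 ≤ n by omega) with rfl | hn4
  · exact ⟨8, hasPres_three.mono (by norm_num)⟩
  exact ⟨10, hasPres_ten (by omega)⟩

end Cfsg.Agent.H68.SpPres
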