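import Cfsg.Agent.H68.SpAmalgam.Induction

/-!
A criterion for the injectivity of a homomorphism onto the symplectic group: the source is generated
by subgroups mapping onto the groups of the amalgam, any two of them lying in a subgroup on which the
map is injective.
-/

set_option autoImplicit false
set_option linter.unusedSectionVars false
set_option linter.unusedSimpArgs false

namespace Cfsg.Agent.H68.SpPres

open Cfsg.Agent.Symplectic Cfsg.Agent.H68.SpAmalgam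

attribute [-simp] spB_apply

section General

variable {X Y : Type*} [Group X] [Group Y] (θ : X →* Y)

/-- `θ` is injective on `R`. -/
def InjOn (R : Subgroup X) : Prop := ∀ y ∈ R, θ y = 1 → y = 1

variable {θ}

theorem InjOn.eq {R : Subgroup X} (hR : InjOn θ R) {x y : X} (hx : x ∈ R) (hy : y ∈ R)
    (h : θ x = θ y) : x = y :=
  mul_inv_eq_one.1 (hR _ (mul_mem hx (inv_mem hy)) (by rw [map_mul, map_inv, h, mul_inv_cancel]))

theorem InjOn.conj {R : Subgroup X} (hR : InjOn θ R) (u : X) :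
    InjOn θ (R.map (MulAut.conj u).toMonoidHom) := by
  rintro _ ⟨y, hy, rfl⟩ h
  have h' : θ y = 1 := by
    simp only [MulEquiv.coe_toMonoidHom, MulAut.conj_apply, map_mul, map_inv] at h
    have := mul_inv_eq_one.1 h
    exact mul_eq_left.mp this
  simp [hR y hy h']

theorem InjOn.mono {R R' : Subgroup X} (hR : InjOn θ R) (h : R' ≤ R) : InjOn θ R' :=
  fun y hy => hR y (h hy)

/-- Two commuting subgroups whose images meet inside the image of their intersection. -/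
theorem InjOn.sup {A B : Subgroup X} (hA : InjOn θ A) (hB : InjOn θ B)
    (hc : ∀ a ∈ A, ∀ b ∈ B, Commute a b)
    (hi : ∀ a ∈ A, ∀ b ∈ B, θ a = θ b → ∃ c ∈ A, c ∈ B ∧ θ c = θ a) : InjOn θ (A ⊔ B) := by
  have hle : A ⊔ B ≤
      ({ carrier := {y | ∃ a ∈ A, ∃ b ∈ B, y = a * b}
         one_mem' := ⟨1, one_mem _, 1, one_mem _, (one_mul 1).symm⟩
         mul_mem' := by
           rintro _ _ ⟨a, ha, b, hb, rfl⟩ ⟨a', ha', b', hb', rfl⟩
           exact ⟨a * a', mul_mem ha ha', b * b', mul_mem hb hb', by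
             rw [mul_assoc, ← mul_assoc b, ← (hc a' ha' b hb).eq]; group⟩
         inv_mem' := by
           rintro _ ⟨a, ha, b, hb, rfl⟩
           exact ⟨a⁻¹, inv_mem ha, b⁻¹, inv_mem hb, by
             rw [mul_inv_rev, ((hc a ha b hb).inv_inv).eq]⟩ } : Subgroup X) :=
    sup_le (fun a ha => ⟨a, ha, 1, one_mem _, (mul_one a).symm⟩)
      (fun b hb => ⟨1, one_mem _, b, hb, (one_mul b).symm⟩)
  intro y hy h
  obtain ⟨a, ha, b, hb, rfl⟩ := hle hy
  rw [map_mul, mul_eq_one_iff_eq_inv, ← map_inv] at h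
  obtain ⟨c, hcA, hcB, hce⟩ := hi a ha b⁻¹ (inv_mem hb) h
  have e1 : a = c := hA.eq ha hcA hce.symm
  have e2 : b⁻¹ = c := hB.eq (inv_mem hb) hcB (h.symm.trans hce.symm)
  rw [e1, ← e2, inv_mul_cancel]

/-- Commuting subgroups with trivially intersecting images. -/
theorem InjOn.sup_disjoint {A B : Subgroup X} (hA : InjOn θ A) (hB : InjOn θ B)
    (hc : ∀ a ∈ A, ∀ b ∈ B, Commute a b) (hi : ∀ a ∈ A, ∀ b ∈ B, θ a = θ b → θ a = 1) :
    InjOn θ (A ⊔ B) :=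
  hA.sup hB hc fun a ha b hb h => ⟨1, one_mem _, one_mem _, by rw [map_one, hi a ha b hb h]⟩

end General

variable {F : Type*} [Field F] {n : ℕ} {X : Type*} [Group X] (θ : X →* Sp n F)

/-- The graph of `θ` on `R`. -/
def graph (R : Subgroup X) : Subgroup (Sp n F × X) := R.map (θ.prod (MonoidHom.id X))

theorem graph_inj {R : Subgroup X} (hR : InjOn θ R) : InjFst (graph θ R) := by
  rintro _ ⟨y, hy, rfl⟩ h
  rw [hR y hy h, map_one]

open Classical in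
/-- The lift through `θ` into `R`. -/
noncomputable def liftIn (R : Subgroup X) (g : Sp n F) : X :=
  if h : ∃ y ∈ R, θ y = g then h.choose else 1

theorem mem_graph {R R' : Subgroup X} (hle : R ≤ R') {g : Sp n F} (h : ∃ y ∈ R, θ y = g) :
    (g, liftIn θ R g) ∈ graph θ R' := by
  rw [liftIn, dif_pos h]
  exact ⟨h.choose, hle h.choose_spec.1, Prod.ext h.choose_spec.2 rfl⟩

theorem liftIn_eq {R : Subgroup X} (hR : InjOn θ R) {y : X} (hy : y ∈ R) :
    liftIn θ R (θ y) = y := by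
  have h : ∃ z ∈ R, θ z = θ y := ⟨y, hy, rfl⟩
  rw [liftIn, dif_pos h]
  exact hR.eq h.choose_spec.1 hy h.choose_spec.2

/-- Everything of index at least `j`. -/
def LX (Sf Mf : Fin n → Subgroup X) (j : ℕ) : Subgroup X :=
  Subgroup.closure {x | (∃ k : Fin n, j ≤ (k : ℕ) ∧ x ∈ Sf k) ∨
    ∃ k : Fin n, j ≤ (k : ℕ) ∧ (k : ℕ) + 1 < n ∧ x ∈ Mf k}

/-- The criterion for an isomorphism. -/
theorem bijective_of_amalgam (Sf Mf : Fin n → Subgroup X)
    (hS : ∀ k g, Pl k g → ∃ y ∈ Sf k, θ y = g) (hS' : ∀ k, ∀ y ∈ Sf k, Pl k (θ y))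
    (hM : ∀ i : Fin n, (i : ℕ) + 1 < n → ∀ g, Up i g → ∃ y ∈ Mf i, θ y = g)
    (hM' : ∀ i : Fin n, (i : ℕ) + 1 < n → ∀ y ∈ Mf i, Up i (θ y))
    (SS : ∀ k l, ∃ R, InjOn θ R ∧ Sf k ≤ R ∧ Sf l ≤ R)
    (MM : ∀ i i' : Fin n, (i : ℕ) + 1 < n → (i' : ℕ) + 1 < n →
      ∃ R, InjOn θ R ∧ Mf i ≤ R ∧ Mf i' ≤ R)
    (MS : ∀ i k : Fin n, (i : ℕ) + 1 < n → ∃ R, InjOn θ R ∧ Mf i ≤ R ∧ Sf k ≤ R)
    (orth : (∃ a : F, a ≠ 0 ∧ a ≠ 1) ∨ ∀ (k : Fin n) (h : (k : ℕ) + 2 < n),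
      ∃ m ∈ Mf k, ∃ y ∈ LX Sf Mf ((k : ℕ) + 1), ∃ y' ∈ LX Sf Mf ((k : ℕ) + 1),
        θ m = E (e k) (e ⟨(k : ℕ) + 1, by omega⟩) ∧
        ap (θ y) (e ⟨(k : ℕ) + 1, by omega⟩) = e ⟨(k : ℕ) + 1, by omega⟩ + e ⟨(k : ℕ) + 2, h⟩ ∧
        ap (θ y') (e ⟨(k : ℕ) + 1, by omega⟩) = e ⟨(k : ℕ) + 2, h⟩ ∧
        m * (y' * m * y'⁻¹) = y * m * y⁻¹)
    (hgen : ∀ U : Subgroup X, (∀ k, Sf k ≤ U) →
      (∀ i : Fin n, (i : ℕ) + 1 < n → Mf i ≤ U) → U = ⊤) :
    Function.Bijective θ := by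
  classical
  let ls : Fin n → Sp n F → Sp n F × X := fun k g => (g, liftIn θ (Sf k) g)
  let lm : Fin n → Sp n F → Sp n F × X := fun i g => (g, liftIn θ (Mf i) g)
  have D : Amal ls lm := by
    refine ⟨fun _ _ => rfl, fun _ _ => rfl, fun k l => ?_, fun i i' hi hi' => ?_, fun i k hi => ?_⟩
    · obtain ⟨R, hR, h1, h2⟩ := SS k l
      exact ⟨graph θ R, graph_inj θ hR, fun g hg => mem_graph θ h1 (hS k g hg),
        fun g hg => mem_graph θ h2 (hS l g hg)⟩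
    · obtain ⟨R, hR, h1, h2⟩ := MM i i' hi hi'
      exact ⟨graph θ R, graph_inj θ hR, fun g hg => mem_graph θ h1 (hM i hi g hg),
        fun g hg => mem_graph θ h2 (hM i' hi' g hg)⟩
    · obtain ⟨R, hR, h1, h2⟩ := MS i k hi
      exact ⟨graph θ R, graph_inj θ hR, fun g hg => mem_graph θ h1 (hM i hi g hg),
        fun g hg => mem_graph θ h2 (hS k g hg)⟩
  have iS : ∀ k, InjOn θ (Sf k) := fun k => by
    obtain ⟨R, hR, h1, -⟩ := SS k k; exact hR.mono h1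
  have iM : ∀ i : Fin n, (i : ℕ) + 1 < n → InjOn θ (Mf i) := fun i hi => by
    obtain ⟨R, hR, h1, -⟩ := MM i i hi hi; exact hR.mono h1
  let φ : X →* Sp n F × X := θ.prod (MonoidHom.id X)
  have hφS : ∀ k, ∀ y ∈ Sf k, φ y = ls k (θ y) := fun k y hy =>
    Prod.ext rfl (liftIn_eq θ (iS k) hy).symm
  have hφM : ∀ i : Fin n, (i : ℕ) + 1 < n → ∀ y ∈ Mf i, φ y = lm i (θ y) := fun i hi y hy =>
    Prod.ext rfl (liftIn_eq θ (iM i hi) hy).symm
  have hLX : ∀ j, ∀ y ∈ LX Sf Mf j, φ y ∈ L ls lm j := by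
    intro j
    suffices h : LX Sf Mf j ≤ (L ls lm j).comap φ from fun y hy => h hy
    refine (Subgroup.closure_le _).2 ?_
    rintro y (⟨k, hk, hy⟩ | ⟨k, hk, hkn, hy⟩)
    · show φ y ∈ L ls lm j
      rw [hφS k y hy]; exact D.mem_L_ls hk (hS' k y hy)
    · show φ y ∈ L ls lm j
      rw [hφM k hkn y hy]; exact D.mem_L_lm hk hkn (hM' k hkn y hy)
  have hO : Orth ls lm := orth.imp id fun h k hk => by
    obtain ⟨m, hm, y, hy, y', hy', em, e1, e2, he⟩ := h k hk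
    have hk1 : (k : ℕ) + 1 < n := by omega
    have hmm : mm lm k 1 = φ m := by
      rw [hφM k hk1 m hm, mm, one_smul, en_eq hk1, em]
    refine ⟨φ y, hLX _ y hy, φ y', hLX _ y' hy', ?_, ?_, ?_⟩
    · rw [en_eq hk1]; exact e1
    · rw [en_eq hk1]; exact e2
    · rw [hmm, ← map_inv, ← map_inv, ← map_mul, ← map_mul, ← map_mul, ← map_mul, ← map_mul, he]
  have G0 := D.good hO 0
  have htop : (L ls lm 0).comap φ = ⊤ := hgen _
    (fun k y hy => hLX 0 y (Subgroup.subset_closure (Or.inl ⟨k, Nat.zero_le _, hy⟩)))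
    (fun i hi y hy => hLX 0 y (Subgroup.subset_closure (Or.inr ⟨i, Nat.zero_le _, hi, hy⟩)))
  have hrange : L ls lm 0 ≤ φ.range := by
    refine (Subgroup.closure_le _).2 ?_
    rintro x (⟨k, -, g, hg, rfl⟩ | ⟨k, -, hkn, g, hg, rfl⟩)
    · obtain ⟨y, hy, rfl⟩ := hS k g hg
      exact ⟨y, hφS k y hy⟩
    · obtain ⟨y, hy, rfl⟩ := hM k hkn g hg
      exact ⟨y, hφM k hkn y hy⟩
  refine ⟨(injective_iff_map_eq_one θ).2 fun x hx => ?_, fun g => ?_⟩
  · have hx' : φ x ∈ L ls lm 0 := by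
      have : x ∈ (L ls lm 0).comap φ := by rw [htop]; trivial
      exact this
    exact congrArg Prod.snd (G0.inj _ hx' hx)
  · obtain ⟨x, hx, hxg⟩ := G0.surj g fun l hl => absurd (Nat.zero_le _) hl
    obtain ⟨y, hy⟩ := hrange hx
    exact ⟨y, by rw [← hxg, ← hy]; rfl⟩

end Cfsg.Agent.H68.SpPres
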