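import Cfsg.Agent.H68.SpPres.Model
import Cfsg.Agent.H68.SpPres.Graph

/-!
The data of a short presentation of the symplectic group and the elements derived from them.
-/

set_option autoImplicit false
set_option linter.unusedSectionVars false
set_option linter.unusedSimpArgs false

namespace Cfsg.Agent.H68.SpPres

open Cfsg.Agent.Symplectic Cfsg.Agent.H68.SpAmalgam Cfsg.Agent.H99.ShortPres Equiv

attribute [-simp] spB_apply

/-- A group `X` with the generators of a short presentation of `Sp_{2(n+2)}(F)`. -/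
structure Setting (F : Type*) [Field F] (n : ℕ) (W : Type*) [Group W] (X : Type*) [Group X] where
  /-- the action of `W` on the planes -/
  act : W →* Perm (Fin (n + 2))
  /-- the map to the symplectic group -/
  θ : X →* Sp (n + 2) F
  /-- the group on the first plane -/
  ρ : Matrix.SpecialLinearGroup (Fin 2) F →* X
  /-- the permutations -/
  τ : W →* X
  /-- the short root element -/
  m : X
  θ_ρ : ∀ g, θ (ρ g) = emb 0 g
  θ_τ : ∀ w, θ (τ w) = pm (act w)
  θ_m : θ m = E (e 0) (e 1)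
  two : ∀ a b, a ≠ b → ∃ w, act w 0 = a ∧ act w 1 = b
  fix_ρ : ∀ w, act w 0 = 0 → ∀ g, Commute (τ w) (ρ g)

variable {F : Type*} [Field F] {n : ℕ} {W : Type*} [Group W] {X : Type*} [Group X]

local notation "SL2" => Matrix.SpecialLinearGroup (Fin 2) F

/-- The lower unitriangular element. -/
def lo (c : F) : SL2 := ⟨!![1, 0; c, 1], by simp [Matrix.det_fin_two]⟩

namespace Setting

variable (S : Setting F n W X)

/-- Conjugation by a permutation. -/
def cw (w : W) : X →* X := (MulAut.conj (S.τ w)).toMonoidHom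

theorem cw_apply (w : W) (y : X) : S.cw w y = S.τ w * y * (S.τ w)⁻¹ := rfl

theorem cw_mul (w v : W) (y : X) : S.cw (w * v) y = S.cw w (S.cw v y) := by
  simp only [cw_apply, map_mul]; group

theorem cw_one (y : X) : S.cw 1 y = y := by simp [cw_apply]

theorem cw_inv_cancel (w : W) (y : X) : S.cw w⁻¹ (S.cw w y) = y := by
  rw [← cw_mul, inv_mul_cancel, cw_one]

theorem cw_cancel_inv (w : W) (y : X) : S.cw w (S.cw w⁻¹ y) = y := by
  rw [← cw_mul, mul_inv_cancel, cw_one]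

theorem commute_cw (w : W) {y z : X} (h : Commute y z) : Commute (S.cw w y) (S.cw w z) := h.map _

theorem θ_cw (w : W) (y : X) :
    S.θ (S.cw w y) = pm (S.act w) * S.θ y * (pm (S.act w))⁻¹ := by
  rw [cw_apply, map_mul, map_mul, map_inv, S.θ_τ]

theorem exists_pt (k : Fin (n + 2)) : ∃ w, S.act w 0 = k := by
  obtain ⟨b, hb⟩ := exists_ne k
  obtain ⟨w, hw, -⟩ := S.two k b (Ne.symm hb)
  exact ⟨w, hw⟩

/-- An element moving the first plane to the `k`-th. -/
noncomputable def pt (k : Fin (n + 2)) : W := (S.exists_pt k).choose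

theorem act_pt (k : Fin (n + 2)) : S.act (S.pt k) 0 = k := (S.exists_pt k).choose_spec

/-- The group on the `k`-th plane. -/
noncomputable def sl (k : Fin (n + 2)) : SL2 →* X := (S.cw (S.pt k)).comp S.ρ

theorem cw_ρ {w : W} (hw : S.act w 0 = 0) (g : SL2) : S.cw w (S.ρ g) = S.ρ g := by
  rw [cw_apply, (S.fix_ρ w hw g).eq, mul_inv_cancel_right]

theorem cw_sl (w : W) (k : Fin (n + 2)) (g : SL2) : S.cw w (S.sl k g) = S.sl (S.act w k) g := by
  simp only [sl, MonoidHom.comp_apply]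
  set k' := S.act w k
  have h : S.act ((S.pt k')⁻¹ * w * S.pt k) 0 = 0 := by
    rw [map_mul, map_mul, map_inv, Perm.mul_apply, Perm.mul_apply, S.act_pt, Perm.inv_eq_iff_eq,
      S.act_pt]
  conv_rhs => rw [← S.cw_ρ h g]
  rw [← cw_mul, ← cw_mul, ← mul_assoc, ← mul_assoc, mul_inv_cancel, one_mul]

theorem sl_zero (g : SL2) : S.sl 0 g = S.ρ g := by
  rw [sl, MonoidHom.comp_apply, S.cw_ρ (S.act_pt 0)]

theorem sl_eq {w : W} {k : Fin (n + 2)} (hw : S.act w 0 = k) (g : SL2) :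
    S.sl k g = S.cw w (S.ρ g) := by
  rw [← S.sl_zero g, cw_sl, hw]

theorem θ_sl (k : Fin (n + 2)) (g : SL2) : S.θ (S.sl k g) = emb k g := by
  rw [sl, MonoidHom.comp_apply, θ_cw, S.θ_ρ, pm_emb, S.act_pt]

theorem exists_sw : ∃ w, S.act w 0 = 1 ∧ S.act w 1 = 0 := S.two 1 0 (by simp)

/-- An element interchanging the first two planes. -/
noncomputable def sw : W := S.exists_sw.choose

theorem sw_zero : S.act S.sw 0 = 1 := S.exists_sw.choose_spec.1

theorem sw_one : S.act S.sw 1 = 0 := S.exists_sw.choose_spec.2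

/-- `w` preserves the pair of the first two planes. -/
def Stab01 (w : W) : Prop :=
  (S.act w 0 = 0 ∧ S.act w 1 = 1) ∨ (S.act w 0 = 1 ∧ S.act w 1 = 0)

end Setting

/-- The relations in the convenient form. -/
structure Rels (S : Setting F n W X) : Prop where
  fix_m : ∀ w, S.Stab01 w → S.cw w S.m = S.m
  SS : ∀ g h, Commute (S.ρ g) (S.sl 1 h)
  far : ∀ l, l ≠ 0 → l ≠ 1 → ∀ g, Commute S.m (S.sl l g)
  m_x : ∀ d : F, Commute S.m (S.sl 1 (up d))
  m_h : ∀ t : Fˣ, Commute S.m (S.ρ (dg t) * S.sl 1 (dg t⁻¹))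
  law_base : ∀ c : Fˣ,
    S.m * (S.sl 1 (wm * dg (-c)) * S.m * (S.sl 1 (wm * dg (-c)))⁻¹) =
      S.sl 1 (lo (c : F)) * S.m * (S.sl 1 (lo (c : F)))⁻¹ * S.ρ (up (c : F))
  comm : ∀ w, Commute S.m (S.cw w S.m)

namespace Rels

variable {S : Setting F n W X} (R : Rels S)
include R

theorem sl_commute {k l : Fin (n + 2)} (h : k ≠ l) (g g' : SL2) :
    Commute (S.sl k g) (S.sl l g') := by
  obtain ⟨w, h0, h1⟩ := S.two k l h
  rw [← h0, ← h1, ← S.cw_sl, ← S.cw_sl, S.sl_zero]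
  exact S.commute_cw w (R.SS g g')

theorem x_m (k : Fin (n + 2)) (d : F) : Commute S.m (S.sl k (up d)) := by
  by_cases h1 : k = 1
  · rw [h1]; exact R.m_x d
  by_cases h0 : k = 0
  · have h := S.commute_cw S.sw (R.m_x d)
    rw [R.fix_m _ (Or.inr ⟨S.sw_zero, S.sw_one⟩), S.cw_sl, S.sw_one] at h
    rw [h0]; exact h
  · exact R.far k h0 h1 _

theorem h_m (t : Fˣ) :
    S.sl 0 (dg t) * S.m * (S.sl 0 (dg t))⁻¹ = S.sl 1 (dg t) * S.m * (S.sl 1 (dg t))⁻¹ := by
  have hc := (R.sl_commute (k := 0) (l := 1) (by simp) (dg t) (dg t)).eq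
  have e : S.sl 1 (dg t⁻¹) = (S.sl 1 (dg t))⁻¹ := by
    rw [← map_inv]
    congr 1
    exact eq_inv_of_mul_eq_one_left (by rw [← dg_mul, inv_mul_cancel, dg_one])
  have h := (R.m_h t).eq
  rw [← S.sl_zero, e] at h
  have hc' : S.sl 0 (dg t) * (S.sl 1 (dg t))⁻¹ = (S.sl 1 (dg t))⁻¹ * S.sl 0 (dg t) :=
    ((R.sl_commute (k := 0) (l := 1) (by simp) (dg t) (dg t)).inv_right).eq
  rw [hc'] at h
  calc S.sl 0 (dg t) * S.m * (S.sl 0 (dg t))⁻¹
      = S.sl 1 (dg t) * ((S.sl 1 (dg t))⁻¹ * S.sl 0 (dg t) * S.m) * (S.sl 0 (dg t))⁻¹ := by group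
    _ = S.sl 1 (dg t) * S.m * (S.sl 1 (dg t))⁻¹ := by rw [← h]; group

end Rels

end Cfsg.Agent.H68.SpPres
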