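import Cfsg.Agent.H68.SpPres.Law

/-!
The subgroups of the amalgam inside a group satisfying the relations, and the injectivity.
-/

set_option autoImplicit false
set_option linter.unusedSectionVars false
set_option linter.unusedSimpArgs false

namespace Cfsg.Agent.H68.SpPres

open Cfsg.Agent.Symplectic Cfsg.Agent.H68.SpAmalgam Cfsg.Agent.H99.ShortPres Equiv

attribute [-simp] spB_apply

/-- The elements `Up i` form a subgroup. -/
def upSub {F : Type*} [Field F] {n : ℕ} (i : Fin n) : Subgroup (Sp n F) where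
  carrier := {g | Up i g}
  one_mem' := ⟨fun l => ap_one _, fun l _ _ => ap_one _⟩
  mul_mem' {g h} hg hh :=
    ⟨fun l => by rw [ap_mul, hh.1, hg.1], fun l h1 h2 => by rw [ap_mul, hh.2 l h1 h2, hg.2 l h1 h2]⟩
  inv_mem' {g} hg :=
    ⟨fun l => by conv_lhs => rw [← hg.1 l]
                 rw [ap_inv_ap],
      fun l h1 h2 => by conv_lhs => rw [← hg.2 l h1 h2]
                        rw [ap_inv_ap]⟩

variable {F : Type*} [Field F] {n : ℕ} {W : Type*} [Group W] {X : Type*} [Group X]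

local notation "SL2" => Matrix.SpecialLinearGroup (Fin 2) F

namespace Setting

variable (S : Setting F n W X)

theorem succ_ne (i : Fin (n + 2)) (hi : (i : ℕ) + 1 < n + 2) : i ≠ ⟨(i : ℕ) + 1, hi⟩ := fun h => by
  have := congrArg Fin.val h
  simp at this

theorem exists_pw (i : Fin (n + 2)) :
    ∃ w, ∀ hi : (i : ℕ) + 1 < n + 2, S.act w 0 = i ∧ S.act w 1 = ⟨(i : ℕ) + 1, hi⟩ := by
  by_cases hi : (i : ℕ) + 1 < n + 2
  · obtain ⟨w, hw⟩ := S.two i _ (succ_ne i hi)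
    exact ⟨w, fun _ => hw⟩
  · exact ⟨1, fun h => absurd h hi⟩

/-- An element moving the first two planes to the planes `i`, `i+1`. -/
noncomputable def pw (i : Fin (n + 2)) : W := (S.exists_pw i).choose

theorem act_pw {i : Fin (n + 2)} (hi : (i : ℕ) + 1 < n + 2) :
    S.act (S.pw i) 0 = i ∧ S.act (S.pw i) 1 = ⟨(i : ℕ) + 1, hi⟩ := (S.exists_pw i).choose_spec hi

/-- The subgroups `S_k`. -/
noncomputable def Sf (k : Fin (n + 2)) : Subgroup X := (S.sl k).range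

/-- The subgroup generated by the elements of index at least `j`. -/
noncomputable def Vj (j : ℕ) : Subgroup X :=
  Subgroup.closure {x | (∃ k : Fin (n + 2), j ≤ (k : ℕ) ∧ ∃ g, x = S.sl k g) ∨
    ∃ w : W, j ≤ (S.act w 0 : ℕ) ∧ (S.act w 1 : ℕ) = (S.act w 0 : ℕ) + 1 ∧ x = S.cw w S.m}

theorem sl_inj (k : Fin (n + 2)) : InjOn S.θ (S.Sf k) := by
  rintro _ ⟨g, rfl⟩ h
  rw [S.θ_sl] at h
  rw [emb_injective k (h.trans (map_one _).symm), map_one]

theorem pm_up {w : W} {i : Fin (n + 2)} (hi : (i : ℕ) + 1 < n + 2) (h0 : S.act w 0 = i)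
    (h1 : S.act w 1 = ⟨(i : ℕ) + 1, hi⟩) {g : Sp (n + 2) F} :
    Up i g ↔ Up (0 : Fin (n + 2)) ((pm (S.act w))⁻¹ * g * pm (S.act w)) := by
  set σ := S.act w
  have hval : ∀ l : Fin (n + 2),
      ((l : ℕ) = ((0 : Fin (n + 2)) : ℕ) ↔ (σ l : ℕ) = i) ∧
        ((l : ℕ) = ((0 : Fin (n + 2)) : ℕ) + 1 ↔ (σ l : ℕ) = (i : ℕ) + 1) := by
    intro l
    constructor
    · constructor
      · intro h; rw [show l = 0 from Fin.ext h, h0]
      · intro h
        rw [← σ.injective (h0.trans (Fin.ext h).symm)]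
    · constructor
      · intro h; rw [show l = 1 from Fin.ext (by simpa using h), h1]
      · intro h
        have : (⟨(i : ℕ) + 1, hi⟩ : Fin (n + 2)) = σ l := Fin.ext h.symm
        rw [← σ.injective (h1.trans this)]
        simp
  have key : ∀ (x : Fin (n + 2) ⊕ Fin (n + 2) → F) y, ap ((pm σ)⁻¹ * g * pm σ) x = y ↔
      ap g (ap (pm σ) x) = ap (pm σ) y := by
    intro x y
    rw [ap_mul, ap_mul]
    constructor
    · intro h; rw [← h, ap_ap_inv]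
    · intro h; rw [h, ap_inv_ap]
  constructor
  · intro h
    refine ⟨fun l => (key _ _).2 (by rw [pm_e]; exact h.1 _), fun l a b => (key _ _).2 ?_⟩
    rw [pm_f]
    exact h.2 _ (fun e => a ((hval l).1.2 e)) (fun e => b ((hval l).2.2 e))
  · intro h
    refine ⟨fun l => ?_, fun l a b => ?_⟩
    · have := (key _ _).1 (h.1 (σ⁻¹ l))
      rwa [pm_e, Perm.coe_inv, Equiv.apply_symm_apply] at this
    · have hl : σ (σ⁻¹ l) = l := σ.apply_symm_apply l
      have := (key _ _).1 (h.2 (σ⁻¹ l) (fun e => a (by have := (hval _).1.1 e; rwa [hl] at this))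
        (fun e => b (by have := (hval _).2.1 e; rwa [hl] at this)))
      rwa [pm_f, hl] at this

end Setting

namespace Rels

variable {S : Setting F n W X} (R : Rels S)
include R

/-- The abelian subgroup on the first two planes. -/
noncomputable def M0 : Subgroup X := R.Pb ⊓ (upSub (0 : Fin (n + 2))).comap S.θ

theorem q_up (c : F) : Up (0 : Fin (n + 2)) (S.θ (S.q (c, 0))) := by
  rw [R.θ_q]
  simp only [Setting.vec, zero_smul, add_zero]
  exact up_E (by simp) c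

theorem M0_mk (a c d : F) : S.ρ (up a) * S.q (c, 0) * S.sl 1 (up d) ∈ R.M0 := by
  refine ⟨mul_mem (mul_mem (R.x0_mem_Pb a) (R.q_mem_Pb _)) (R.sl_mem_Pb _), ?_⟩
  show S.θ _ ∈ upSub (0 : Fin (n + 2))
  rw [map_mul, map_mul, S.θ_ρ, emb_up, S.θ_sl, emb_up]
  exact mul_mem (mul_mem (show ex (0 : Fin (n + 2)) a ∈ upSub 0 from up_ex (Or.inl rfl) a) (R.q_up c))
    (show ex (1 : Fin (n + 2)) d ∈ upSub 0 from up_ex (Or.inr (by simp)) d)

theorem θ_mk (a c d : F) : S.θ (S.ρ (up a) * S.q (c, 0) * S.sl 1 (up d)) =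
    ex 0 a * E (e 0) (c • e 1) * ex 1 d := by
  rw [map_mul, map_mul, S.θ_ρ, emb_up, R.θ_q, S.θ_sl, emb_up]
  simp [Setting.vec]

theorem M0_form {y : X} (hy : y ∈ R.M0) :
    ∃ a c d, y = S.ρ (up a) * S.q (c, 0) * S.sl 1 (up d) := by
  obtain ⟨hy1, hy2⟩ := hy
  obtain ⟨a, c, d, h⟩ := Up.decomp (i := (0 : Fin (n + 2))) (j := 1) (by simp) hy2
  exact ⟨a, c, d, R.Pb_inj.eq hy1 (R.M0_mk a c d).1 (by rw [h, R.θ_mk])⟩

theorem m_mem_M0 : S.m ∈ R.M0 := by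
  have := R.M0_mk 0 1 0
  simpa [up_zero, R.q_one] using this

theorem x_mem_M0 {k : Fin (n + 2)} (hk : k = 0 ∨ k = 1) (d : F) : S.sl k (up d) ∈ R.M0 := by
  rcases hk with rfl | rfl
  · have := R.M0_mk d 0 0
    simpa [up_zero, S.q_zero, S.sl_zero, show ((0 : F), (0 : F)) = 0 from rfl] using this
  · have := R.M0_mk 0 0 d
    simpa [up_zero, S.q_zero, show ((0 : F), (0 : F)) = 0 from rfl] using this

theorem cw_q {u : W} (hu : S.Stab01 u) (c : F) : S.cw u (S.q (c, 0)) = S.q (c, 0) := by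
  by_cases hc : c = 0
  · rw [hc, show ((0 : F), (0 : F)) = 0 from rfl, S.q_zero, map_one]
  rw [show c = ((Units.mk0 c hc : Fˣ) : F) from rfl, R.q_axis, map_mul, map_mul, map_inv, S.cw_sl,
    R.fix_m u hu]
  rcases hu with ⟨h0, -⟩ | ⟨h0, -⟩
  · rw [h0]
  · rw [h0, R.h_m]

theorem cw_M0 {u : W} (hu : S.Stab01 u) {y : X} (hy : y ∈ R.M0) : S.cw u y ∈ R.M0 := by
  obtain ⟨a, c, d, rfl⟩ := R.M0_form hy
  have hk : ∀ k : Fin (n + 2), k = 0 ∨ k = 1 → S.act u k = 0 ∨ S.act u k = 1 := by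
    rintro k (rfl | rfl) <;> rcases hu with ⟨h0, h1⟩ | ⟨h0, h1⟩ <;> simp [h0, h1]
  rw [map_mul, map_mul, ← S.sl_zero, S.cw_sl, S.cw_sl, R.cw_q hu]
  refine mul_mem (mul_mem (R.x_mem_M0 (hk 0 (Or.inl rfl)) a) ?_) (R.x_mem_M0 (hk 1 (Or.inr rfl)) d)
  have := R.M0_mk 0 c 0
  simpa [up_zero] using this

/-- The subgroup on the planes moved by `w`. -/
noncomputable def Mp (w : W) : Subgroup X := R.M0.map (S.cw w)

theorem Mp_le {w w' : W} (h : S.Stab01 (w'⁻¹ * w)) : R.Mp w ≤ R.Mp w' := by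
  rintro _ ⟨y, hy, rfl⟩
  exact ⟨S.cw (w'⁻¹ * w) y, R.cw_M0 h hy, by rw [← S.cw_mul, mul_inv_cancel_left]⟩

theorem Mp_le_Pb (w : W) : R.Mp w ≤ R.Pb.map (S.cw w) := Subgroup.map_mono inf_le_left

theorem Mp_le_Pb' (w : W) : R.Mp w ≤ R.Pb.map (S.cw (w * S.sw)) := by
  refine (R.Mp_le (w' := w * S.sw) ?_).trans (R.Mp_le_Pb _)
  rw [mul_inv_rev, inv_mul_cancel_right, Setting.Stab01, map_inv]
  right
  constructor
  · rw [Perm.inv_eq_iff_eq, S.sw_one]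
  · rw [Perm.inv_eq_iff_eq, S.sw_zero]

theorem Mp_inj (w : W) : InjOn S.θ (R.Mp w) := (R.Pb_inj.mono inf_le_left).conj (S.τ w)

theorem Pb_cw_inj (w : W) : InjOn S.θ (R.Pb.map (S.cw w)) := R.Pb_inj.conj (S.τ w)

theorem sl_le_Pb_cw {w : W} {k : Fin (n + 2)} (hk : S.act w 1 = k) :
    S.Sf k ≤ R.Pb.map (S.cw w) := by
  rintro _ ⟨g, rfl⟩
  exact ⟨S.sl 1 g, R.sl_mem_Pb g, by rw [S.cw_sl, hk]⟩

theorem h_far {l : Fin (n + 2)} {u : W} (h0 : l ≠ S.act u 0) (h1 : l ≠ S.act u 1) (g : SL2) :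
    Commute (S.sl l g) (S.cw u S.m) := by
  have e : S.act u (S.act u⁻¹ l) = l := by rw [map_inv]; exact Equiv.apply_symm_apply _ _
  have := (R.far (S.act u⁻¹ l) (fun h => h0 (by rw [← e, h])) (fun h => h1 (by rw [← e, h])) g).symm
  have h := S.commute_cw u this
  rwa [S.cw_sl, e] at h

theorem q_far {l : Fin (n + 2)} (h0 : l ≠ 0) (h1 : l ≠ 1) (g : SL2) (c : F) :
    Commute (S.sl l g) (S.q (c, 0)) := by
  by_cases hc : c = 0
  · rw [hc, show ((0 : F), (0 : F)) = 0 from rfl, S.q_zero]; exact Commute.one_right _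
  rw [show c = ((Units.mk0 c hc : Fˣ) : F) from rfl, R.q_axis]
  exact ((R.sl_commute h0 g _).mul_right (R.far l h0 h1 g).symm).mul_right
    (R.sl_commute h0 g _).inv_right

theorem x_q (k : Fin (n + 2)) (d c : F) : Commute (S.sl k (up d)) (S.q (c, 0)) := by
  by_cases h0 : k = 0
  · rw [h0, S.sl_zero]; exact R.x0_q d _
  by_cases h1 : k = 1
  · subst h1
    have := R.q_gv (up d) (c, 0)
    rw [gv_up_axis, mul_inv_eq_iff_eq_mul] at this
    exact this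
  · exact R.q_far h0 h1 _ c

theorem sl_M0 {l : Fin (n + 2)} (h0 : l ≠ 0) (h1 : l ≠ 1) (g : SL2) {y : X} (hy : y ∈ R.M0) :
    Commute (S.sl l g) y := by
  obtain ⟨a, c, d, rfl⟩ := R.M0_form hy
  rw [← S.sl_zero]
  exact ((R.sl_commute h0 g _).mul_right (R.q_far h0 h1 g c)).mul_right (R.sl_commute h1 g _)

theorem x_x (k l : Fin (n + 2)) (a b : F) : Commute (S.sl k (up a)) (S.sl l (up b)) := by
  by_cases h : k = l
  · subst h
    show _ * _ = _ * _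
    rw [← map_mul, ← map_mul, ← up_add, ← up_add, add_comm]
  · exact R.sl_commute h _ _

theorem q_q (c d : F) : Commute (S.q ((c, 0) : F × F)) (S.q (d, 0)) := by
  show _ * _ = _ * _
  rw [R.law, R.law, add_comm]
  simp [dt]

theorem M0_commute (u : W) {y z : X} (hy : y ∈ R.M0) (hz : z ∈ R.M0) : Commute y (S.cw u z) := by
  obtain ⟨a, c, d, rfl⟩ := R.M0_form hy
  obtain ⟨a', c', d', rfl⟩ := R.M0_form hz
  have xq' : ∀ k t e', Commute (S.sl k (up t)) (S.cw u (S.q (e', 0))) := fun k t e' => by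
    have e : S.act u (S.act u⁻¹ k) = k := by rw [map_inv]; exact Equiv.apply_symm_apply _ _
    have h := S.commute_cw u (R.x_q (S.act u⁻¹ k) t e')
    rwa [S.cw_sl, e] at h
  have qq : Commute (S.q (c, 0)) (S.cw u (S.q (c', 0))) := by
    by_cases hu : S.Stab01 u
    · rw [R.cw_q hu]; exact R.q_q c c'
    by_cases hc : c = 0
    · rw [hc, show ((0 : F), (0 : F)) = 0 from rfl, S.q_zero]; exact Commute.one_left _
    by_cases hc' : c' = 0
    · rw [hc', show ((0 : F), (0 : F)) = 0 from rfl, S.q_zero, map_one]; exact Commute.one_right _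
    obtain ⟨a, ha, ha0, ha1⟩ : ∃ a : Fin (n + 2), (a = 0 ∨ a = 1) ∧ a ≠ S.act u 0 ∧ a ≠ S.act u 1 := by
      by_contra h
      push Not at h
      have h0 := h 0 (Or.inl rfl)
      have h1 := h 1 (Or.inr rfl)
      by_cases h00 : (0 : Fin (n + 2)) = S.act u 0
      · refine hu (Or.inl ⟨h00.symm, (h1 ?_).symm⟩)
        rw [← h00]; simp
      · refine hu (Or.inr ⟨?_, (h0 h00).symm⟩)
        by_contra h10
        exact absurd ((h1 (Ne.symm h10)).trans (h0 h00).symm) (by simp)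
    obtain ⟨b, hb, hb0, hb1⟩ : ∃ b : Fin (n + 2), (b = 0 ∨ b = 1) ∧ S.act u b ≠ 0 ∧ S.act u b ≠ 1 := by
      by_contra h
      push Not at h
      have h0 := h 0 (Or.inl rfl)
      have h1 := h 1 (Or.inr rfl)
      have hne : S.act u 0 ≠ S.act u 1 := (S.act u).injective.ne (by simp)
      by_cases h00 : S.act u 0 = 0
      · refine hu (Or.inl ⟨h00, h1 ?_⟩)
        rw [← h00]; exact hne.symm
      · refine hu (Or.inr ⟨h0 h00, ?_⟩)
        by_contra h10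
        exact hne ((h0 h00).trans (h1 h10).symm)
    have key : ∀ (t : Fˣ) (k : Fin (n + 2)), k = 0 ∨ k = 1 →
        S.q ((t : F), 0) = S.sl k (dg t) * S.m * (S.sl k (dg t))⁻¹ := by
      rintro t k (rfl | rfl)
      · exact R.q_axis t
      · rw [R.q_axis, R.h_m]
    rw [show c = ((Units.mk0 c hc : Fˣ) : F) from rfl, show c' = ((Units.mk0 c' hc' : Fˣ) : F) from rfl,
      key _ a ha, key _ b hb, map_mul, map_mul, map_inv, S.cw_sl]
    have hab : a ≠ S.act u b := by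
      rcases hb with rfl | rfl
      · exact ha0
      · exact ha1
    have c1 : Commute (S.sl a (dg (Units.mk0 c hc))) (S.cw u S.m) := R.h_far ha0 ha1 _
    have c2 : Commute (S.sl (S.act u b) (dg (Units.mk0 c' hc'))) S.m := (R.far _ hb0 hb1 _).symm
    have c3 := R.sl_commute hab (dg (Units.mk0 c hc)) (dg (Units.mk0 c' hc'))
    have p1 : ∀ {z : X}, Commute (S.sl a (dg (Units.mk0 c hc))) z → Commute S.m z →
        Commute (S.sl a (dg (Units.mk0 c hc)) * S.m * (S.sl a (dg (Units.mk0 c hc)))⁻¹) z :=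
      fun h1 h2 => (h1.mul_left h2).mul_left h1.inv_left
    exact ((p1 c3 c2.symm).mul_right (p1 c1 (R.comm u))).mul_right (p1 c3 c2.symm).inv_right
  rw [map_mul, map_mul, ← S.sl_zero, ← S.sl_zero, S.cw_sl, S.cw_sl]
  have P1 : ∀ k t, Commute (S.sl k (up t))
      (S.sl (S.act u 0) (up a') * S.cw u (S.q (c', 0)) * S.sl (S.act u 1) (up d')) := fun k t =>
    ((R.x_x k _ t a').mul_right (xq' k t c')).mul_right (R.x_x k _ t d')
  exact ((P1 0 a).mul_left (((R.x_q _ a' c).symm.mul_right qq).mul_right (R.x_q _ d' c).symm)).mul_left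
    (P1 1 d)

theorem Mp_commute (w w' : W) {y z : X} (hy : y ∈ R.Mp w) (hz : z ∈ R.Mp w') : Commute y z := by
  obtain ⟨y, hy, rfl⟩ := hy
  obtain ⟨z, hz, rfl⟩ := hz
  have h := S.commute_cw w (R.M0_commute (w⁻¹ * w') hy hz)
  rwa [← S.cw_mul, mul_inv_cancel_left] at h

theorem x_mem_Mp {w : W} {k : Fin (n + 2)} (hk : S.act w 0 = k ∨ S.act w 1 = k) (d : F) :
    S.sl k (up d) ∈ R.Mp w := by
  rcases hk with h | h
  · exact ⟨_, R.x_mem_M0 (Or.inl rfl) d, by rw [S.cw_sl, h]⟩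
  · exact ⟨_, R.x_mem_M0 (Or.inr rfl) d, by rw [S.cw_sl, h]⟩

theorem Mp_up {i : Fin (n + 2)} (hi : (i : ℕ) + 1 < n + 2) {y : X} (hy : y ∈ R.Mp (S.pw i)) :
    Up i (S.θ y) := by
  obtain ⟨y, hy, rfl⟩ := hy
  obtain ⟨h0, h1⟩ := S.act_pw hi
  rw [S.pm_up hi h0 h1, S.θ_cw]
  have : (pm (S.act (S.pw i)))⁻¹ * (pm (S.act (S.pw i)) * S.θ y * (pm (S.act (S.pw i)))⁻¹) *
      pm (S.act (S.pw i)) = S.θ y := by group
  rw [this]
  exact hy.2

theorem Mp_surj {i : Fin (n + 2)} (hi : (i : ℕ) + 1 < n + 2) {g : Sp (n + 2) F} (hg : Up i g) :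
    ∃ y ∈ R.Mp (S.pw i), S.θ y = g := by
  obtain ⟨h0, h1⟩ := S.act_pw hi
  obtain ⟨a, c, d, h⟩ := Up.decomp (i := (0 : Fin (n + 2))) (j := 1) (by simp)
    ((S.pm_up hi h0 h1).1 hg)
  refine ⟨S.cw (S.pw i) (S.ρ (up a) * S.q (c, 0) * S.sl 1 (up d)), ⟨_, R.M0_mk a c d, rfl⟩, ?_⟩
  rw [S.θ_cw, R.θ_mk, ← h]
  group

theorem Mp_sl_inj {i k : Fin (n + 2)} (hi : (i : ℕ) + 1 < n + 2) (h0 : k ≠ i)
    (h1 : (k : ℕ) ≠ (i : ℕ) + 1) : InjOn S.θ (R.Mp (S.pw i) ⊔ S.Sf k) := by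
  obtain ⟨e0, e1⟩ := S.act_pw hi
  refine (R.Mp_inj _).sup_disjoint (S.sl_inj k) ?_ ?_
  · rintro _ ⟨y, hy, rfl⟩ _ ⟨g, rfl⟩
    have e : S.act (S.pw i) (S.act (S.pw i)⁻¹ k) = k := by
      rw [map_inv]; exact Equiv.apply_symm_apply _ _
    have h := S.commute_cw (S.pw i) (R.sl_M0 (l := S.act (S.pw i)⁻¹ k)
      (fun h => h0 (by rw [← e, h, e0])) (fun h => h1 (by rw [← e, h, e1])) g hy).symm
    rwa [S.cw_sl, e] at h
  · rintro y hy _ ⟨g, rfl⟩ h
    have hU := R.Mp_up hi hy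
    have hP : Pl k (S.θ y) := by rw [h, S.θ_sl]; exact pl_emb k g
    refine ext_ap (fun l => by rw [hU.1, ap_one]) fun l => ?_
    rw [ap_one]
    by_cases hl : l = k
    · subst hl; exact hU.2 l (fun e => h0 (Fin.ext e)) h1
    · exact (hP l hl).2

theorem MM_inj {i i' : Fin (n + 2)} (hi : (i : ℕ) + 1 < n + 2) (hi' : (i' : ℕ) + 1 < n + 2)
    (hne : i ≠ i') : InjOn S.θ (R.Mp (S.pw i) ⊔ R.Mp (S.pw i')) := by
  obtain ⟨e0, e1⟩ := S.act_pw hi
  obtain ⟨f0, f1⟩ := S.act_pw hi'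
  refine (R.Mp_inj _).sup (R.Mp_inj _) (fun a ha b hb => R.Mp_commute _ _ ha hb) ?_
  intro y hy z hz h
  have hU := R.Mp_up hi hy
  have hU' : Up i' (S.θ y) := h ▸ R.Mp_up hi' hz
  -- all planes but one are fixed
  obtain ⟨j, hj, hj', hfix⟩ : ∃ j : Fin (n + 2), (j = i ∨ (j : ℕ) = (i : ℕ) + 1) ∧
      (((j = i' ∨ (j : ℕ) = (i' : ℕ) + 1)) ∨ S.θ y = 1) ∧
      ∀ l, l ≠ j → ap (S.θ y) (f l) = f l := by
    have hne' : (i : ℕ) ≠ i' := fun e => hne (Fin.ext e)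
    by_cases hadj : (i' : ℕ) = (i : ℕ) + 1
    · refine ⟨i', Or.inr hadj, Or.inl (Or.inl rfl), fun l hl => ?_⟩
      by_cases hl' : (l : ℕ) = (i' : ℕ) + 1
      · exact hU.2 l (by omega) (by omega)
      · exact hU'.2 l (fun e => hl (Fin.ext e)) hl'
    by_cases hadj' : (i : ℕ) = (i' : ℕ) + 1
    · refine ⟨i, Or.inl rfl, Or.inl (Or.inr hadj'), fun l hl => ?_⟩
      by_cases hl' : (l : ℕ) = (i : ℕ) + 1
      · exact hU'.2 l (by omega) (by omega)
      · exact hU.2 l (fun e => hl (Fin.ext e)) hl'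
    have hall : ∀ l, ap (S.θ y) (f l) = f l := fun l => by
      by_cases hl : (l : ℕ) = i ∨ (l : ℕ) = (i : ℕ) + 1
      · exact hU'.2 l (by omega) (by omega)
      · push Not at hl
        exact hU.2 l hl.1 hl.2
    exact ⟨i, Or.inl rfl, Or.inr (ext_ap (fun l => by rw [hU.1, ap_one]) fun l => by
      rw [hall, ap_one]), fun l _ => hall l⟩
  rcases hj' with hj' | h1
  swap
  · exact ⟨1, one_mem _, one_mem _, by rw [map_one, h1]⟩
  have hP : Pl j (S.θ y) := fun l hl => ⟨hU.1 l, hfix l hl⟩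
  obtain ⟨g, hg⟩ := exists_emb hP
  have hge := hU.1 j
  rw [← hg, emb_e] at hge
  have a1 := congrFun hge (Sum.inl j)
  have a2 := congrFun hge (Sum.inr j)
  simp at a1 a2
  have hgu : g = up (g 0 1) := by
    have hd := g.2
    rw [Matrix.det_fin_two, a1, a2] at hd
    ext r s
    fin_cases r <;> fin_cases s <;> simp [up, a1, a2]
    simpa using hd
  refine ⟨S.sl j (up (g 0 1)), R.x_mem_Mp ?_ _, R.x_mem_Mp ?_ _, ?_⟩
  · rcases hj with rfl | hj
    · exact Or.inl e0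
    · exact Or.inr (e1.trans (Fin.ext hj.symm))
  · rcases hj' with rfl | hj'
    · exact Or.inl f0
    · exact Or.inr (f1.trans (Fin.ext hj'.symm))
  · rw [S.θ_sl, ← hgu, hg]

theorem bijective
    (orth : (∃ a : F, a ≠ 0 ∧ a ≠ 1) ∨ ∀ (k : Fin (n + 2)) (h : (k : ℕ) + 2 < n + 2),
      ∃ w : W, ∃ y ∈ S.Vj ((k : ℕ) + 1), ∃ y' ∈ S.Vj ((k : ℕ) + 1),
        S.act w 0 = k ∧ S.act w 1 = ⟨(k : ℕ) + 1, by omega⟩ ∧
        ap (S.θ y) (e ⟨(k : ℕ) + 1, by omega⟩) = e ⟨(k : ℕ) + 1, by omega⟩ + e ⟨(k : ℕ) + 2, h⟩ ∧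
        ap (S.θ y') (e ⟨(k : ℕ) + 1, by omega⟩) = e ⟨(k : ℕ) + 2, h⟩ ∧
        S.cw w S.m * (y' * S.cw w S.m * y'⁻¹) = y * S.cw w S.m * y⁻¹)
    (hgen : S.Vj 0 = ⊤) : Function.Bijective S.θ := by
  classical
  have mpw : ∀ w (hw : (S.act w 1 : ℕ) = (S.act w 0 : ℕ) + 1),
      S.cw w S.m ∈ R.Mp (S.pw (S.act w 0)) := by
    intro w hw
    have hi : (S.act w 0 : ℕ) + 1 < n + 2 := hw ▸ (S.act w 1).2
    obtain ⟨h0, h1⟩ := S.act_pw hi
    refine R.Mp_le ?_ (Subgroup.mem_map_of_mem _ R.m_mem_M0)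
    left
    simp only [map_mul, map_inv, Perm.mul_apply, Perm.inv_eq_iff_eq]
    exact ⟨h0.symm, (Fin.ext hw).trans h1.symm⟩
  have hV : ∀ j, S.Vj j ≤ LX S.Sf (fun i => R.Mp (S.pw i)) j := by
    intro j
    refine (Subgroup.closure_le _).2 ?_
    rintro x (⟨k, hk, g, rfl⟩ | ⟨w, hw0, hw1, rfl⟩)
    · exact Subgroup.subset_closure (Or.inl ⟨k, hk, ⟨g, rfl⟩⟩)
    · exact Subgroup.subset_closure (Or.inr ⟨_, hw0, hw1 ▸ (S.act w 1).2, mpw w hw1⟩)
  refine bijective_of_amalgam S.θ S.Sf (fun i => R.Mp (S.pw i))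
    (fun k g hg => ?_) (fun k y hy => ?_) (fun i hi g hg => R.Mp_surj hi hg)
    (fun i hi y hy => R.Mp_up hi hy) (fun k l => ?_) (fun i i' hi hi' => ?_) (fun i k hi => ?_)
    ?_ ?_
  · obtain ⟨h, rfl⟩ := exists_emb hg
    exact ⟨S.sl k h, ⟨h, rfl⟩, S.θ_sl k h⟩
  · obtain ⟨g, rfl⟩ := hy
    rw [S.θ_sl]; exact pl_emb k g
  · by_cases hkl : k = l
    · subst hkl; exact ⟨S.Sf k, S.sl_inj k, le_rfl, le_rfl⟩
    refine ⟨S.Sf k ⊔ S.Sf l, (S.sl_inj k).sup_disjoint (S.sl_inj l) ?_ ?_, le_sup_left, le_sup_right⟩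
    · rintro _ ⟨g, rfl⟩ _ ⟨g', rfl⟩
      exact R.sl_commute hkl g g'
    · rintro _ ⟨g, rfl⟩ _ ⟨g', rfl⟩ h
      rw [S.θ_sl, S.θ_sl] at h
      rw [S.θ_sl]
      refine ext_ap (fun x => ?_) fun x => ?_ <;> rw [ap_one]
      · by_cases hx : x = k
        · subst hx; rw [h]; exact (pl_emb l g' x hkl).1
        · exact (pl_emb k g x hx).1
      · by_cases hx : x = k
        · subst hx; rw [h]; exact (pl_emb l g' x hkl).2
        · exact (pl_emb k g x hx).2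
  · by_cases hii : i = i'
    · subst hii; exact ⟨_, R.Mp_inj _, le_rfl, le_rfl⟩
    exact ⟨_, R.MM_inj hi hi' hii, le_sup_left, le_sup_right⟩
  · by_cases h0 : k = i
    · subst h0
      exact ⟨_, R.Pb_cw_inj _, R.Mp_le_Pb' (S.pw k),
        R.sl_le_Pb_cw (by rw [map_mul, Perm.mul_apply, S.sw_one, (S.act_pw hi).1])⟩
    by_cases h1 : (k : ℕ) = (i : ℕ) + 1
    · exact ⟨_, R.Pb_cw_inj _, R.Mp_le_Pb (S.pw i),
        R.sl_le_Pb_cw ((S.act_pw hi).2.trans (Fin.ext h1.symm))⟩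
    exact ⟨_, R.Mp_sl_inj hi h0 h1, le_sup_left, le_sup_right⟩
  · refine orth.imp id fun h k hk => ?_
    obtain ⟨w, y, hy, y', hy', h0, h1, ey, ey', he⟩ := h k hk
    refine ⟨S.cw w S.m, ?_, y, hV _ hy, y', hV _ hy', ?_, ey, ey', he⟩
    · have := mpw w (by rw [h0, h1])
      rwa [h0] at this
    · rw [S.θ_cw, S.θ_m]
      have := pm_E (F := F) (S.act w) 0 1 1
      rwa [one_smul, one_smul, h0, h1] at this
  · intro U hS hM
    rw [eq_top_iff, ← hgen]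
    refine (Subgroup.closure_le _).2 ?_
    rintro x (⟨k, -, g, rfl⟩ | ⟨w, -, hw1, rfl⟩)
    · exact hS k ⟨g, rfl⟩
    · exact hM _ (hw1 ▸ (S.act w 1).2) (mpw w hw1)

end Rels

end Cfsg.Agent.H68.SpPres
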