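import Cfsg.Agent.H68.SpPres.Base

/-!
The short root elements on the second plane, their multiplication law, and the parabolic subgroup.
-/

set_option autoImplicit false
set_option linter.unusedSectionVars false
set_option linter.unusedSimpArgs false

namespace Cfsg.Agent.H68.SpPres

open Cfsg.Agent.Symplectic Cfsg.Agent.H68.SpAmalgam Cfsg.Agent.H99.ShortPres Equiv

attribute [-simp] spB_apply

variable {F : Type*} [Field F] {n : ℕ} {W : Type*} [Group W] {X : Type*} [Group X]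

local notation "SL2" => Matrix.SpecialLinearGroup (Fin 2) F

/-- The first column. -/
def col (g : SL2) : F × F := (g 0 0, g 1 0)

/-- The action on pairs. -/
def gv (g : SL2) (v : F × F) : F × F := (g 0 0 * v.1 + g 0 1 * v.2, g 1 0 * v.1 + g 1 1 * v.2)

/-- The determinant of two pairs. -/
def dt (v w : F × F) : F := v.1 * w.2 - v.2 * w.1

theorem col_mul (g h : SL2) : col (g * h) = gv g (col h) := by
  simp [col, gv, Matrix.mul_apply, Fin.sum_univ_two]

theorem gv_mul (g h : SL2) (v : F × F) : gv (g * h) v = gv g (gv h v) := by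
  simp only [gv, Matrix.SpecialLinearGroup.coe_mul, Matrix.mul_apply, Fin.sum_univ_two, Prod.mk.injEq]
  constructor <;> ring

theorem gv_one (v : F × F) : gv (1 : SL2) v = v := by
  simp [gv]

theorem gv_add (g : SL2) (v w : F × F) : gv g (v + w) = gv g v + gv g w := by
  simp only [gv, Prod.fst_add, Prod.snd_add, Prod.mk_add_mk, Prod.mk.injEq]
  constructor <;> ring

theorem gv_zero (g : SL2) : gv g 0 = 0 := by simp [gv]

theorem gv_smul (g : SL2) (c : F) (v : F × F) : gv g (c • v) = c • gv g v := by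
  simp only [gv, Prod.smul_fst, Prod.smul_snd, smul_eq_mul, Prod.smul_mk, Prod.mk.injEq]
  constructor <;> ring

theorem col_ne_zero (g : SL2) : col g ≠ 0 := fun h => by
  have hd := g.2
  rw [Matrix.det_fin_two] at hd
  rw [col, Prod.mk_eq_zero] at h
  rw [h.1, h.2] at hd
  simp at hd

theorem gv_ne_zero (g : SL2) {v : F × F} (hv : v ≠ 0) : gv g v ≠ 0 := fun h => hv (by
  rw [← gv_one (v := v), ← inv_mul_cancel g, gv_mul, h, gv_zero])

theorem exists_col {v : F × F} (hv : v ≠ 0) : ∃ g : SL2, col g = v := by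
  obtain ⟨a, b⟩ := v
  by_cases ha : a = 0
  · subst ha
    have hb : b ≠ 0 := fun h => hv (by simp [h])
    exact ⟨⟨!![0, -b⁻¹; b, 0], by simp [Matrix.det_fin_two, hb]⟩, by simp [col]⟩
  · exact ⟨⟨!![a, 0; b, a⁻¹], by simp [Matrix.det_fin_two, ha]⟩, by simp [col]⟩

theorem col_stab {g h : SL2} (hgh : col g = col h) : ∃ u, h = g * up u := by
  have hk : col (g⁻¹ * h) = (1, 0) := by
    rw [col_mul, ← hgh, ← col_mul, inv_mul_cancel]; simp [col]
  set k := g⁻¹ * h with hkdef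
  refine ⟨k 0 1, ?_⟩
  have hd := k.2
  rw [Matrix.det_fin_two] at hd
  simp only [col, Prod.mk.injEq] at hk
  rw [hk.1, hk.2, one_mul, mul_zero, sub_zero] at hd
  have e : k = up (k 0 1) := by
    ext i j
    fin_cases i <;> fin_cases j
    · simp [up, hk.1]
    · simp [up]
    · simp [up, hk.2]
    · simp [up, hd]
  rw [← e, hkdef, mul_inv_cancel_left]

theorem gv_up_axis (d c : F) : gv (up d) (c, 0) = ((c, 0) : F × F) := by simp [gv, up]

namespace Setting

variable (S : Setting F n W X)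

open Classical in
/-- The short root elements. -/
noncomputable def q (v : F × F) : X :=
  if h : v ≠ 0 then
    S.sl 1 (exists_col h).choose * S.m * (S.sl 1 (exists_col h).choose)⁻¹
  else 1

theorem q_zero : S.q 0 = 1 := by simp [q]

/-- The vector of the second plane with the given coordinates. -/
def vec (v : F × F) : Fin (n + 2) ⊕ Fin (n + 2) → F := v.1 • e 1 + v.2 • f 1

end Setting

namespace Rels

variable {S : Setting F n W X} (R : Rels S)
include R

theorem q_col (g : SL2) : S.q (col g) = S.sl 1 g * S.m * (S.sl 1 g)⁻¹ := by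
  have h := col_ne_zero g
  rw [Setting.q, dif_pos h]
  obtain ⟨u, hu⟩ := col_stab (exists_col h).choose_spec.symm
  rw [hu, map_mul]
  calc S.sl 1 g * S.sl 1 (up u) * S.m * (S.sl 1 g * S.sl 1 (up u))⁻¹
      = S.sl 1 g * (S.sl 1 (up u) * S.m) * (S.sl 1 (up u))⁻¹ * (S.sl 1 g)⁻¹ := by group
    _ = _ := by rw [← (R.m_x u).eq]; group

theorem q_one : S.q (1, 0) = S.m := by
  have h := R.q_col 1
  simpa [col] using h

theorem q_gv (g : SL2) (v : F × F) : S.sl 1 g * S.q v * (S.sl 1 g)⁻¹ = S.q (gv g v) := by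
  by_cases hv : v = 0
  · rw [hv, gv_zero, S.q_zero]; group
  obtain ⟨h, rfl⟩ := exists_col hv
  rw [← col_mul, R.q_col, R.q_col, map_mul]
  group

theorem x0_q (z : F) (v : F × F) : Commute (S.ρ (up z)) (S.q v) := by
  by_cases hv : v = 0
  · rw [hv, S.q_zero]; exact Commute.one_right _
  obtain ⟨h, rfl⟩ := exists_col hv
  rw [R.q_col, ← S.sl_zero]
  have h1 : Commute (S.sl 0 (up z)) (S.sl 1 h) := R.sl_commute (by simp) _ _
  exact (h1.mul_right (R.x_m 0 z).symm).mul_right h1.inv_right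

theorem h0_q (t : Fˣ) (v : F × F) :
    S.sl 0 (dg t) * S.q v * (S.sl 0 (dg t))⁻¹ = S.q ((t : F) • v) := by
  by_cases hv : v = 0
  · rw [hv, smul_zero, S.q_zero]; group
  obtain ⟨g, rfl⟩ := exists_col hv
  have h1 : S.sl 0 (dg t) * S.sl 1 g = S.sl 1 g * S.sl 0 (dg t) :=
    (R.sl_commute (k := 0) (l := 1) (by simp) _ _).eq
  calc S.sl 0 (dg t) * S.q (col g) * (S.sl 0 (dg t))⁻¹
      = (S.sl 0 (dg t) * S.sl 1 g) * S.m * (S.sl 0 (dg t) * S.sl 1 g)⁻¹ := by rw [R.q_col]; group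
    _ = S.sl 1 g * (S.sl 0 (dg t) * S.m * (S.sl 0 (dg t))⁻¹) * (S.sl 1 g)⁻¹ := by rw [h1]; group
    _ = S.sl 1 g * S.q (col (dg t)) * (S.sl 1 g)⁻¹ := by rw [R.h_m, R.q_col]
    _ = S.q (gv g (col (dg t))) := R.q_gv _ _
    _ = S.q ((t : F) • col g) := by
      congr 1
      rw [show col (dg t) = (t : F) • ((1, 0) : F × F) by simp [col, dg], gv_smul]
      simp [gv, col]

theorem q_axis (c : Fˣ) : S.q ((c : F), 0) = S.sl 0 (dg c) * S.m * (S.sl 0 (dg c))⁻¹ := by
  rw [R.h_m, ← R.q_col]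
  simp [col, dg]

theorem law_ne {v w : F × F} (h : dt v w ≠ 0) :
    S.q v * S.q w = S.q (v + w) * S.ρ (up (dt v w)) := by
  set c : Fˣ := Units.mk0 (dt v w) h with hc
  let g : SL2 := ⟨!![v.1, w.1 / (c : F); v.2, w.2 / (c : F)], by
    rw [Matrix.det_fin_two_of, ← mul_div_assoc, div_mul_eq_mul_div, div_sub_div_same,
      div_eq_one_iff_eq c.ne_zero]
    simp [hc, dt, mul_comm]⟩
  have e1 : gv g (1, 0) = v := by simp [g, gv]
  have e2 : gv g (0, (c : F)) = w := by simp [g, gv, div_mul_cancel₀ _ h]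
  have e3 : gv g (1, (c : F)) = v + w := by
    rw [← e1, ← e2, ← gv_add, Prod.mk_add_mk, add_zero, zero_add]
  have b1 : S.q (0, (c : F)) =
      S.sl 1 (wm * dg (-c)) * S.m * (S.sl 1 (wm * dg (-c)))⁻¹ := by
    rw [← R.q_col]
    congr 1
    rw [col_mul]
    simp [gv, col, wm, dg]
  have b2 : S.q (1, (c : F)) = S.sl 1 (lo (c : F)) * S.m * (S.sl 1 (lo (c : F)))⁻¹ := by
    rw [← R.q_col]
    simp [col, lo]
  have base := R.law_base c
  rw [← b1, ← b2, ← R.q_one] at base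
  have h1 : Commute (S.sl 1 g) (S.ρ (up (c : F))) := by
    rw [← S.sl_zero]; exact R.sl_commute (by simp) _ _
  calc S.q v * S.q w
      = S.sl 1 g * (S.q (1, 0) * S.q (0, (c : F))) * (S.sl 1 g)⁻¹ := by
        rw [← e1, ← e2, ← R.q_gv g, ← R.q_gv g]; group
    _ = S.sl 1 g * S.q (1, (c : F)) * (S.ρ (up (c : F)) * (S.sl 1 g)⁻¹) := by rw [base]; group
    _ = S.sl 1 g * S.q (1, (c : F)) * ((S.sl 1 g)⁻¹ * S.ρ (up (c : F))) := by
        rw [h1.inv_left.eq]
    _ = _ := by rw [← mul_assoc, R.q_gv, e3]; simp [hc]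

omit R in
theorem x0_add (y z : F) : S.ρ (up (y + z)) = S.ρ (up y) * S.ρ (up z) := by
  rw [up_add, map_mul]

theorem q_neg_mul (v : F × F) : S.q (-v) * S.q v = 1 := by
  by_cases hv : v = 0
  · rw [hv, neg_zero, S.q_zero, one_mul]
  obtain ⟨g, hg⟩ := exists_col hv
  set u := gv g (0, 1) with hu
  have hd : dt v u = 1 := by
    have hd := g.2
    rw [Matrix.det_fin_two] at hd
    simp only [hu, ← hg, dt, gv, col]
    linear_combination hd
  have hd' : dt (-v) (v + u) = -1 := by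
    simp only [dt, Prod.fst_add, Prod.snd_add, Prod.fst_neg, Prod.snd_neg] at hd ⊢
    linear_combination -hd
  have h1 := R.law_ne (v := v) (w := u) (by rw [hd]; exact one_ne_zero)
  have h2 := R.law_ne (v := -v) (w := v + u) (by rw [hd']; exact neg_ne_zero.2 one_ne_zero)
  rw [hd] at h1
  rw [hd', neg_add_cancel_left] at h2
  have e : S.q (-v) * S.q v * S.q u = S.q u := by
    rw [mul_assoc, h1, ← mul_assoc, h2, mul_assoc, ← x0_add, neg_add_cancel, up_zero, map_one, mul_one]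
  exact mul_eq_right.mp e

theorem law (v w : F × F) : S.q v * S.q w = S.q (v + w) * S.ρ (up (dt v w)) := by
  by_cases h : dt v w ≠ 0
  · exact R.law_ne h
  push Not at h
  rw [h, up_zero, map_one, mul_one]
  by_cases hv : v = 0
  · rw [hv, S.q_zero, one_mul, zero_add]
  by_cases hw : w = 0
  · rw [hw, S.q_zero, mul_one, add_zero]
  obtain ⟨g, hg⟩ := exists_col hv
  set u := gv g (0, 1) with hu
  set w' := gv g⁻¹ w with hw'
  have hgw : gv g w' = w := by rw [hw', ← gv_mul, mul_inv_cancel, gv_one]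
  have hd := g.2
  rw [Matrix.det_fin_two] at hd
  have key : ∀ a b : F × F, dt (gv g a) (gv g b) = dt a b := by
    intro a b
    simp only [dt, gv]
    linear_combination (a.1 * b.2 - a.2 * b.1) * hd
  have hv1 : gv g (1, 0) = v := by rw [← hg]; simp [gv, col]
  have hw2 : w'.2 = 0 := by
    rw [← hv1, ← hgw, key] at h
    simpa [dt] using h
  by_cases hs : w'.1 = -1
  · have : w = -v := by
      rw [← hgw, ← hv1, show w' = (-1 : F) • ((1, 0) : F × F) from Prod.ext (by simp [hs]) (by simp [hw2]),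
        gv_smul, neg_one_smul]
    rw [this, add_neg_cancel, S.q_zero]
    have h' := R.q_neg_mul (-v)
    rwa [neg_neg] at h'
  have hw1 : w'.1 ≠ 0 := fun h0 => hw (by
    rw [← hgw, show w' = 0 from Prod.ext h0 hw2, gv_zero])
  have d1 : dt v u = 1 := by rw [← hv1, hu, key]; simp [dt]
  have d2 : dt u (w - u) = -w'.1 := by
    have : w - u = gv g (w' - (0, 1)) := by
      rw [eq_comm, eq_sub_iff_add_eq, hu, ← gv_add, sub_add_cancel, hgw]
    rw [this, hu, key]
    simp [dt, hw2]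
  have d3 : dt (v + u) (w - u) = -1 - w'.1 := by
    have e1 : v + u = gv g ((1, 0) + (0, 1)) := by rw [gv_add, hv1]
    have : w - u = gv g (w' - (0, 1)) := by
      rw [eq_comm, eq_sub_iff_add_eq, hu, ← gv_add, sub_add_cancel, hgw]
    rw [this, e1, key]
    simp [dt, hw2]
  have l1 := R.law_ne (v := v) (w := u) (by rw [d1]; exact one_ne_zero)
  have l2 := R.law_ne (v := u) (w := w - u) (by rw [d2]; exact neg_ne_zero.2 hw1)
  have l3 := R.law_ne (v := v + u) (w := w - u) (by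
    rw [d3]; exact fun h0 => hs (by linear_combination -h0))
  rw [d1] at l1
  rw [d2, add_sub_cancel] at l2
  rw [d3, add_assoc, add_sub_cancel] at l3
  have hq : S.q w = S.q u * S.q (w - u) * S.ρ (up w'.1) := by
    rw [l2, mul_assoc, ← x0_add, neg_add_cancel, up_zero, map_one, mul_one]
  calc S.q v * S.q w = S.q v * S.q u * S.q (w - u) * S.ρ (up w'.1) := by rw [hq]; group
    _ = S.q (v + u) * (S.ρ (up 1) * S.q (w - u)) * S.ρ (up w'.1) := by rw [l1]; group
    _ = S.q (v + u) * S.q (w - u) * (S.ρ (up 1) * S.ρ (up w'.1)) := by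
      rw [(R.x0_q 1 (w - u)).eq]; group
    _ = S.q (v + w) := by
      rw [l3, mul_assoc, ← x0_add, ← x0_add, show -1 - w'.1 + (1 + w'.1) = 0 by ring, up_zero,
        map_one, mul_one]

theorem θ_q (v : F × F) : S.θ (S.q v) = E (e 0) (Setting.vec v) := by
  by_cases hv : v = 0
  · rw [hv, S.q_zero, map_one]
    simp [Setting.vec, E_zero]
  obtain ⟨g, rfl⟩ := exists_col hv
  rw [R.q_col, map_mul, map_mul, map_inv, S.θ_sl, S.θ_m, E_conj, (pl_emb 1 g 0 (by simp)).1,
    emb_e]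
  rfl

/-- The parabolic subgroup. -/
noncomputable def Pb : Subgroup X where
  carrier := {y | ∃ v z g, y = S.q v * S.ρ (up z) * S.sl 1 g}
  one_mem' := ⟨0, 0, 1, by rw [S.q_zero, up_zero, map_one, map_one, one_mul, one_mul]⟩
  mul_mem' := by
    rintro _ _ ⟨v, z, g, rfl⟩ ⟨v', z', g', rfl⟩
    refine ⟨v + gv g v', dt v (gv g v') + (z + z'), g * g', ?_⟩
    have h1 : Commute (S.sl 1 g) (S.ρ (up z')) := by
      rw [← S.sl_zero]; exact R.sl_commute (by simp) _ _
    have h2 : S.sl 1 g * S.q v' = S.q (gv g v') * S.sl 1 g := by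
      rw [← R.q_gv g v']; group
    calc S.q v * S.ρ (up z) * S.sl 1 g * (S.q v' * S.ρ (up z') * S.sl 1 g')
        = S.q v * S.ρ (up z) * (S.sl 1 g * S.q v') * (S.ρ (up z') * S.sl 1 g') := by group
      _ = S.q v * (S.ρ (up z) * S.q (gv g v')) * (S.sl 1 g * S.ρ (up z')) * S.sl 1 g' := by
        rw [h2]; group
      _ = S.q v * S.q (gv g v') * (S.ρ (up z) * S.ρ (up z')) * (S.sl 1 g * S.sl 1 g') := by
        rw [(R.x0_q z (gv g v')).eq, h1.eq]; group
      _ = _ := by rw [R.law, x0_add, x0_add, map_mul]; group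
  inv_mem' := by
    rintro _ ⟨v, z, g, rfl⟩
    refine ⟨-gv g⁻¹ v, -z, g⁻¹, ?_⟩
    have h1 : Commute (S.sl 1 g)⁻¹ (S.ρ (up (-z))) := by
      rw [← S.sl_zero]; exact (R.sl_commute (by simp) _ _).inv_left
    have e1 : ∀ u, (S.q u)⁻¹ = S.q (-u) := fun u =>
      (eq_inv_of_mul_eq_one_left (R.q_neg_mul u)).symm
    have e2 : (S.ρ (up z))⁻¹ = S.ρ (up (-z)) := by
      rw [eq_comm, eq_inv_iff_mul_eq_one, ← x0_add, neg_add_cancel, up_zero, map_one]
    calc (S.q v * S.ρ (up z) * S.sl 1 g)⁻¹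
        = (S.sl 1 g)⁻¹ * S.ρ (up (-z)) * S.q (-v) := by rw [← e1, ← e2]; group
      _ = S.ρ (up (-z)) * ((S.sl 1 g)⁻¹ * S.q (-v) * S.sl 1 g) * (S.sl 1 g)⁻¹ := by
        rw [h1.eq]; group
      _ = S.ρ (up (-z)) * S.q (gv g⁻¹ (-v)) * S.sl 1 g⁻¹ := by
        rw [← R.q_gv, map_inv, inv_inv]
      _ = _ := by
        rw [(R.x0_q (-z) _).eq]
        congr 3
        rw [← neg_one_smul F v, gv_smul, neg_one_smul]

theorem q_mem_Pb (v : F × F) : S.q v ∈ R.Pb :=
  ⟨v, 0, 1, by rw [up_zero, map_one, map_one, mul_one, mul_one]⟩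

theorem m_mem_Pb : S.m ∈ R.Pb := R.q_one ▸ R.q_mem_Pb _

theorem x0_mem_Pb (z : F) : S.ρ (up z) ∈ R.Pb :=
  ⟨0, z, 1, by rw [S.q_zero, map_one, mul_one, one_mul]⟩

theorem sl_mem_Pb (g : SL2) : S.sl 1 g ∈ R.Pb :=
  ⟨0, 0, g, by rw [S.q_zero, up_zero, map_one, one_mul, one_mul]⟩

theorem Pb_inj : InjOn S.θ R.Pb := by
  rintro _ ⟨v, z, g, rfl⟩ h
  rw [map_mul, map_mul, R.θ_q, S.θ_ρ, emb_up, S.θ_sl] at h
  have hB : spB (n + 2) F (Setting.vec v) (e 0) = 0 := by
    simp [Setting.vec, B_right_e]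
  have hx : ∀ x, ap (E (e 0) (Setting.vec v)) (ap (ex 0 z) (ap (emb 1 g) x)) = x := fun x => by
    rw [← ap_mul, ← ap_mul, h, ap_one]
  have hfix : ∀ a b : F, ap (ex 0 z) (a • e 1 + b • f 1 : Fin (n + 2) ⊕ Fin (n + 2) → F)
      = a • e 1 + b • f 1 := fun a b => by
    rw [map_add, map_smul, map_smul, (pl_ex 0 z 1 (by simp)).1, (pl_ex 0 z 1 (by simp)).2]
  have h1 := hx (e 1)
  have h2 := hx (f 1)
  rw [emb_e, hfix, ap_E hB] at h1
  rw [emb_f, hfix, ap_E hB] at h2
  have hg : g = 1 := by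
    have a1 := congrFun h1 (Sum.inl 1)
    have a2 := congrFun h1 (Sum.inr 1)
    have a3 := congrFun h2 (Sum.inl 1)
    have a4 := congrFun h2 (Sum.inr 1)
    simp [Setting.vec, B_right_e] at a1 a2 a3 a4
    ext i j
    fin_cases i <;> fin_cases j <;> simp [a1, a2, a3, a4]
  subst hg
  have h3 := hx (f 0)
  rw [map_one, ap_one, ap_ex_f, ap_E hB] at h3
  have b1 := congrFun h3 (Sum.inl 1)
  have b2 := congrFun h3 (Sum.inr 1)
  have b3 := congrFun h3 (Sum.inl 0)
  simp [Setting.vec, B_f, B_right_e, SpAmalgam.B_e] at b1 b2 b3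
  have hv : v = 0 := Prod.ext b1 b2
  subst hv
  simp [S.q_zero, b3, up_zero]

end Rels

end Cfsg.Agent.H68.SpPres
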