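import Cfsg.Agent.H68.SpAmalgam.Basic
import Cfsg.Agent.H99.ShortPresModel

/-!
The model for the short presentations of the symplectic group: `SL(2)` on a hyperbolic plane and the
permutations of the planes.
-/

set_option autoImplicit false
set_option linter.unusedSectionVars false
set_option linter.unusedSimpArgs false

namespace Cfsg.Agent.H68.SpPres

open Cfsg.Agent.Symplectic Cfsg.Agent.H68.SpAmalgam Cfsg.Agent.H99.ShortPres Equiv

attribute [-simp] spB_apply

variable {F : Type*} [Field F] {n : ℕ}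

local notation "V" => (Fin n ⊕ Fin n → F)
local notation "B" => spB n F
local notation "SL2" => Matrix.SpecialLinearGroup (Fin 2) F

/-- The permutation of the planes as a linear map. -/
def pmLin (σ : Perm (Fin n)) : V →ₗ[F] V where
  toFun v s := v (Sum.map ⇑σ⁻¹ ⇑σ⁻¹ s)
  map_add' _ _ := rfl
  map_smul' _ _ := rfl

theorem pmLin_mul (σ τ : Perm (Fin n)) (v : V) : pmLin (σ * τ) v = pmLin σ (pmLin τ v) := by
  funext s; rcases s with s | s <;> rfl

theorem pmLin_one (v : V) : pmLin (1 : Perm (Fin n)) v = v := by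
  funext s; rcases s with s | s <;> rfl

theorem pmLin_form (σ : Perm (Fin n)) (u v : V) : B (pmLin σ u) (pmLin σ v) = B u v := by
  rw [spB_apply, spB_apply, sympForm_eq, sympForm_eq]
  exact Equiv.sum_comp σ⁻¹ fun i => u (Sum.inr i) * v (Sum.inl i) - u (Sum.inl i) * v (Sum.inr i)

/-- The permutations of the planes inside the symplectic group. -/
noncomputable def pm : Perm (Fin n) →* Sp n F where
  toFun σ := ⟨LinearMap.toMatrix' (pmLin (F := F) σ), (mem_symplectic_iff_form _).mpr fun u v => by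
    rw [LinearMap.toMatrix'_mulVec, LinearMap.toMatrix'_mulVec, ← spB_apply, ← spB_apply]
    exact pmLin_form σ u v⟩
  map_one' := sp_ext fun v => by
    rw [LinearMap.toMatrix'_mulVec, pmLin_one, Submonoid.coe_one, Matrix.one_mulVec]
  map_mul' σ τ := sp_ext fun v => by
    rw [LinearMap.toMatrix'_mulVec, Submonoid.coe_mul, ← Matrix.mulVec_mulVec,
      LinearMap.toMatrix'_mulVec, LinearMap.toMatrix'_mulVec, pmLin_mul]

theorem ap_pm (σ : Perm (Fin n)) (v : V) : ap (pm σ) v = pmLin σ v := by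
  rw [ap_eq]; exact LinearMap.toMatrix'_mulVec (pmLin σ) v

theorem pm_e (σ : Perm (Fin n)) (k : Fin n) : ap (pm σ) (e k) = (e (σ k) : V) := by
  rw [ap_pm]
  funext s
  rcases s with s | s
  · simp [pmLin, e, Pi.single_apply, Equiv.symm_apply_eq]
  · simp [pmLin, e]

theorem pm_f (σ : Perm (Fin n)) (k : Fin n) : ap (pm σ) (f k) = (f (σ k) : V) := by
  rw [ap_pm]
  funext s
  rcases s with s | s
  · simp [pmLin, f]
  · simp [pmLin, f, Pi.single_apply, Equiv.symm_apply_eq]

/-- The linear map of a matrix acting on the `k`-th plane. -/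
def embLin (k : Fin n) (M : Matrix (Fin 2) (Fin 2) F) : V →ₗ[F] V where
  toFun v := v + ((M 0 0 - 1) * v (Sum.inl k) + M 0 1 * v (Sum.inr k)) • e k
    + (M 1 0 * v (Sum.inl k) + (M 1 1 - 1) * v (Sum.inr k)) • f k
  map_add' u v := by simp only [Pi.add_apply]; module
  map_smul' c v := by simp only [Pi.smul_apply, smul_eq_mul, RingHom.id_apply]; module

theorem embLin_apply (k : Fin n) (M : Matrix (Fin 2) (Fin 2) F) (v : V) :
    embLin k M v = v + ((M 0 0 - 1) * v (Sum.inl k) + M 0 1 * v (Sum.inr k)) • e k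
      + (M 1 0 * v (Sum.inl k) + (M 1 1 - 1) * v (Sum.inr k)) • f k := rfl

theorem embLin_one (k : Fin n) (v : V) : embLin k 1 v = v := by
  simp [embLin_apply]

theorem embLin_mul (k : Fin n) (M N : Matrix (Fin 2) (Fin 2) F) (v : V) :
    embLin k (M * N) v = embLin k M (embLin k N v) := by
  simp only [embLin_apply, Pi.add_apply, Pi.smul_apply, e_inl, e_inr, f_inl, f_inr, smul_eq_mul,
    if_true, mul_one, mul_zero, add_zero, Matrix.mul_apply, Fin.sum_univ_two]
  module

theorem embLin_form (k : Fin n) (g : SL2) (u v : V) :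
    B (embLin k (g : Matrix (Fin 2) (Fin 2) F) u) (embLin k (g : Matrix (Fin 2) (Fin 2) F) v) = B u v := by
  have hd := g.2
  rw [Matrix.det_fin_two] at hd
  simp only [embLin_apply, map_add, map_smul, LinearMap.add_apply, LinearMap.smul_apply, smul_eq_mul,
    B_self, SpAmalgam.B_e, B_f, B_right_e, B_right_f, e_inl, e_inr, f_inl, f_inr, if_true]
  linear_combination (u (Sum.inr k) * v (Sum.inl k) - u (Sum.inl k) * v (Sum.inr k)) * hd

/-- `SL(2)` on the `k`-th plane. -/
noncomputable def emb (k : Fin n) : SL2 →* Sp n F where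
  toFun g := ⟨LinearMap.toMatrix' (embLin k (g : Matrix (Fin 2) (Fin 2) F)),
    (mem_symplectic_iff_form _).mpr fun u v => by
      rw [LinearMap.toMatrix'_mulVec, LinearMap.toMatrix'_mulVec, ← spB_apply, ← spB_apply]
      exact embLin_form k g u v⟩
  map_one' := sp_ext fun v => by
    rw [LinearMap.toMatrix'_mulVec, Matrix.SpecialLinearGroup.coe_one, embLin_one, Submonoid.coe_one,
      Matrix.one_mulVec]
  map_mul' g h := sp_ext fun v => by
    rw [LinearMap.toMatrix'_mulVec, Submonoid.coe_mul, ← Matrix.mulVec_mulVec,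
      LinearMap.toMatrix'_mulVec, LinearMap.toMatrix'_mulVec, Matrix.SpecialLinearGroup.coe_mul,
      embLin_mul]

theorem ap_emb (k : Fin n) (g : SL2) (v : V) :
    ap (emb k g) v = v + ((g 0 0 - 1) * v (Sum.inl k) + g 0 1 * v (Sum.inr k)) • e k
      + (g 1 0 * v (Sum.inl k) + (g 1 1 - 1) * v (Sum.inr k)) • f k := by
  rw [ap_eq]; exact LinearMap.toMatrix'_mulVec (embLin k (g : Matrix (Fin 2) (Fin 2) F)) v

theorem emb_e (k : Fin n) (g : SL2) :
    ap (emb k g) (e k) = g 0 0 • (e k : V) + g 1 0 • (f k : V) := by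
  rw [ap_emb]; simp only [e_inl, e_inr, if_true]; module

theorem emb_f (k : Fin n) (g : SL2) :
    ap (emb k g) (f k) = g 0 1 • (e k : V) + g 1 1 • (f k : V) := by
  rw [ap_emb]; simp only [f_inl, f_inr, if_true]; module

theorem pl_emb (k : Fin n) (g : SL2) : Pl k (emb k g : Sp n F) := fun l hl => by
  constructor <;> (rw [ap_emb]; simp [Ne.symm hl])

theorem exists_emb {k : Fin n} {g : Sp n F} (hg : Pl k g) : ∃ h : SL2, emb k h = g := by
  classical
  have key : ∀ v : V, (∀ l : Fin n, l ≠ k → v (Sum.inl l) = 0 ∧ v (Sum.inr l) = 0) →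
      v = v (Sum.inl k) • e k + v (Sum.inr k) • f k := fun v hv => by
    conv_lhs => rw [eq_sum v]
    rw [Finset.sum_eq_single k (fun l _ hl => by rw [(hv l hl).1, (hv l hl).2]; simp)
      (fun h => absurd (Finset.mem_univ k) h)]
  have hfix : ∀ v : V, (∀ l : Fin n, l ≠ k → v (Sum.inl l) = 0 ∧ v (Sum.inr l) = 0) →
      ∀ l : Fin n, l ≠ k → ap g v (Sum.inl l) = 0 ∧ ap g v (Sum.inr l) = 0 := fun v hv l hl => by
    have hl' : (l : ℕ) ∉ ({(k : ℕ)} : Set ℕ) := fun h => hl (Fin.ext (by simpa using h))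
    obtain ⟨h1, h2⟩ := hg.supp.coord hl' v
    rw [h1, h2]; exact hv l hl
  have he := key _ (hfix (e k) fun l hl => by simp [hl])
  have hf := key _ (hfix (f k) fun l hl => by simp [hl])
  set a := ap g (e k) (Sum.inl k)
  set c := ap g (e k) (Sum.inr k)
  set b := ap g (f k) (Sum.inl k)
  set d := ap g (f k) (Sum.inr k)
  have hd : a * d - b * c = 1 := by
    have h := B_ap g (f k) (e k)
    rw [he, hf] at h
    simp only [map_add, map_smul, LinearMap.add_apply, LinearMap.smul_apply, smul_eq_mul, B_self,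
      SpAmalgam.B_e, B_f, e_inl, f_inr, if_true] at h
    linear_combination h
  let h : SL2 := ⟨!![a, b; c, d], by rw [Matrix.det_fin_two_of]; exact hd⟩
  refine ⟨h, ext_pl (pl_emb k _) hg ?_ ?_⟩
  · rw [emb_e, he]; simp [h]
  · rw [emb_f, hf]; simp [h]

theorem emb_injective (k : Fin n) : Function.Injective (emb (F := F) k) := by
  intro g h hgh
  have he := congrArg (fun x => ap x (e k : V)) hgh
  have hf := congrArg (fun x => ap x (f k : V)) hgh
  simp only [emb_e, emb_f] at he hf
  have h1 := congrFun he (Sum.inl k)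
  have h2 := congrFun he (Sum.inr k)
  have h3 := congrFun hf (Sum.inl k)
  have h4 := congrFun hf (Sum.inr k)
  simp at h1 h2 h3 h4
  ext i j
  fin_cases i <;> fin_cases j <;> assumption

theorem emb_up (k : Fin n) (u : F) : emb k (up u) = ex k u := by
  refine ext_pl (pl_emb k _) (pl_ex k u) ?_ ?_
  · rw [emb_e, ap_ex_e]; simp [up]
  · rw [emb_f, ap_ex_f]; simp [up, add_comm]

theorem emb_dg (k : Fin n) (t : Fˣ) : emb k (dg t) = eh k (t : F) := by
  obtain ⟨h1, h2⟩ := ap_eh (F := F) k t.ne_zero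
  refine ext_pl (pl_emb k _) (pl_eh k _) ?_ ?_
  · rw [emb_e, h1]; simp [dg]
  · rw [emb_f, h2]; simp [dg]

theorem emb_wm (k : Fin n) : emb (F := F) k wm = ew k 1 := by
  obtain ⟨h1, h2⟩ := ap_ew (F := F) k (t := 1) one_ne_zero
  refine ext_pl (pl_emb k _) (pl_ew k _) ?_ ?_
  · rw [emb_e, h1]; simp [wm]
  · rw [emb_f, h2]; simp [wm]

theorem pm_emb (σ : Perm (Fin n)) (k : Fin n) (g : SL2) :
    pm σ * emb k g * (pm σ)⁻¹ = emb (σ k) g := by
  rw [mul_inv_eq_iff_eq_mul]
  refine ext_ap (fun l => ?_) fun l => ?_ <;> rw [ap_mul, ap_mul]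
  · by_cases hl : l = k
    · subst hl
      rw [emb_e, map_add, map_smul, map_smul, pm_e, pm_f, emb_e]
    · rw [(pl_emb k g l hl).1, pm_e, (pl_emb (σ k) g _ (σ.injective.ne hl)).1]
  · by_cases hl : l = k
    · subst hl
      rw [emb_f, map_add, map_smul, map_smul, pm_e, pm_f, emb_f]
    · rw [(pl_emb k g l hl).2, pm_f, (pl_emb (σ k) g _ (σ.injective.ne hl)).2]

theorem pm_E (σ : Perm (Fin n)) (a b : Fin n) (c : F) :
    pm σ * E (e a) (c • e b) * (pm σ)⁻¹ = (E (e (σ a)) (c • e (σ b)) : Sp n F) := by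
  rw [E_conj, map_smul, pm_e, pm_e]

theorem B_ee (a b : Fin n) : B (e a : V) (e b) = 0 := by
  rw [SpAmalgam.B_e]; simp

theorem E_comm {a u : V} (h : B u a = 0) : (E a u : Sp n F) = E u a := by
  have h' : B a u = 0 := by rw [B_swap, h, neg_zero]
  refine sp_ext fun x => ?_
  rw [← ap_eq, ← ap_eq, ap_E h, ap_E h', add_assoc, add_assoc, add_comm (B x u • a)]

end Cfsg.Agent.H68.SpPres
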