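import Cfsg.Agent.H68.SpPres.Derived

/-!
From finitely many relations to all of them.
-/

set_option autoImplicit false
set_option linter.unusedSectionVars false
set_option linter.unusedSimpArgs false

namespace Cfsg.Agent.H68.SpPres

open Cfsg.Agent.Symplectic Cfsg.Agent.H68.SpAmalgam Cfsg.Agent.H99.ShortPres Equiv

attribute [-simp] spB_apply

section General

/-- A product of commuting elements of coprime orders centralised by `x` has both factors centralised. -/
theorem commute_of_coprime {G : Type*} [Group G] {x a b : G} {N M : ℕ} (hab : Commute a b)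
    (ha : a ^ N = 1) (hb : b ^ M = 1) (hco : Nat.Coprime M N) (h : Commute x (a * b)) :
    Commute x a ∧ Commute x b := by
  have h1 : (a * b) ^ M = a ^ M := by rw [hab.mul_pow, hb, mul_one]
  obtain ⟨k, hk⟩ := exists_pow_eq_self_of_coprime
    (hco.coprime_dvd_right (orderOf_dvd_of_pow_eq_one ha))
  have hxa : Commute x a := by
    rw [← hk, ← h1]
    exact (h.pow_right M).pow_right k
  refine ⟨hxa, ?_⟩
  have := hxa.inv_right.mul_right h
  rwa [inv_mul_cancel_left] at this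

/-- Commutation with generators gives commutation with a homomorphic image. -/
theorem commute_map_of_closure {G H : Type*} [Group G] [Group H] (f : G →* H) {s : Set G} {x : H}
    (h : ∀ g ∈ s, Commute x (f g)) {g : G} (hg : g ∈ Subgroup.closure s) : Commute x (f g) := by
  induction hg using Subgroup.closure_induction with
  | mem y hy => exact h y hy
  | one => rw [map_one]; exact Commute.one_right _
  | mul a b _ _ ha hb => rw [map_mul]; exact ha.mul_right hb
  | inv a _ ha => rw [map_inv]; exact ha.inv_right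

end General

variable {F : Type*} [Field F] {n : ℕ} {W : Type*} [Group W]

local notation "SL2" => Matrix.SpecialLinearGroup (Fin 2) F

theorem up_pow (u : F) (k : ℕ) : up u ^ k = up ((k : F) * u) := by
  induction k with
  | zero => simp [up_zero]
  | succ k ih => rw [pow_succ, ih, ← up_add]; push_cast; ring_nf

theorem dg_lo (s : Fˣ) (c : F) : dg s⁻¹ * lo c * dg s = lo ((s : F) ^ 2 * c) := by
  apply SL_ext
  simp only [Matrix.SpecialLinearGroup.coe_mul]
  ext i j
  fin_cases i <;> fin_cases j <;>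
    simp [Matrix.mul_apply, Fin.sum_univ_two, dg, lo] <;> ring

theorem dg_wm (s c : Fˣ) : dg s⁻¹ * (wm * dg c) * dg s = (wm * dg (c * s ^ 2) : SL2) := by
  have e : dg s⁻¹ * (wm : SL2) = wm * dg s := by
    have h := wm_dg (F := F) s
    have h2 : (wm : SL2) * dg s * wm⁻¹ = dg s⁻¹ := by
      rw [eq_inv_of_mul_eq_one_left h]
      exact inv_eq_of_mul_eq_one_right (by rw [← dg_mul, mul_inv_cancel, dg_one])
    rw [← h2, inv_mul_cancel_right]
  rw [← mul_assoc, e, mul_assoc, mul_assoc, ← dg_mul, ← dg_mul]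
  congr 2
  rw [pow_two]
  exact mul_left_comm s c s

/-- Two generators of `SL(2)` over a finite field. -/
theorem exists_sl_two [Finite F] :
    ∃ a b : SL2, Subgroup.closure ({a, b} : Set SL2) = ⊤ := by
  haveI := Fintype.ofFinite F
  obtain ⟨p, hch⟩ := CharP.exists F
  haveI : Fact p.Prime := ⟨CharP.char_is_prime F p⟩
  letI : Algebra (ZMod p) F := ZMod.algebra F p
  obtain ⟨ω, hω⟩ := IsCyclic.exists_generator (α := Fˣ)
  have hgen := fun u => gen_of_generator (p := p) ω hω u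
  have hm := closure_model (p := p) ω hgen
  by_cases h2 : (ω : F) ^ 2 = 1
  · refine ⟨up 1, wm, top_le_iff.mp (hm ▸ (Subgroup.closure_le _).2 ?_)⟩
    rintro y (rfl | rfl | rfl)
    · exact Subgroup.subset_closure (by simp)
    · have h : ω = 1 ∨ ω = -1 := by
        rcases sq_eq_one_iff.1 h2 with h | h
        · exact Or.inl (Units.ext h)
        · exact Or.inr (Units.ext h)
      rcases h with rfl | rfl
      · rw [dg_one]; exact one_mem _
      · rw [← wm_sq]
        exact mul_mem (Subgroup.subset_closure (by simp)) (Subgroup.subset_closure (by simp))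
    · exact Subgroup.subset_closure (by simp)
  · refine ⟨dg ω, up 1 * wm, top_le_iff.mp ?_⟩
    set H := Subgroup.closure ({dg ω, up 1 * wm} : Set SL2)
    have hh : dg ω ∈ H := Subgroup.subset_closure (by simp)
    have hg : up (1 : F) * wm ∈ H := Subgroup.subset_closure (by simp)
    set c : F := 1 - ((ω : F) ^ 2)⁻¹ with hc
    have hc0 : c ≠ 0 := fun h => h2 (inv_eq_one.1 (sub_eq_zero.1 h).symm)
    have hω2 : (ω : F) ^ 2 ≠ 0 := pow_ne_zero _ ω.ne_zero
    have hcH : up c ∈ H := by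
      have h : up c = up 1 * wm * dg ω * (up 1 * wm)⁻¹ * dg ω := by
        have e1 : (wm : SL2) * dg ω * wm⁻¹ = (dg ω)⁻¹ := eq_inv_of_mul_eq_one_left (wm_dg ω)
        have e3 : (up (1 : F))⁻¹ = up (-1) :=
          inv_eq_of_mul_eq_one_right (by rw [← up_add, add_neg_cancel, up_zero])
        have e4 : (dg ω)⁻¹ * up (-1 : F) * dg ω = up (-((ω : F) ^ 2)⁻¹) := by
          rw [mul_assoc, inv_mul_eq_iff_eq_mul, dg_up, mul_neg, mul_inv_cancel₀ hω2]
        calc up c = up 1 * up (-((ω : F) ^ 2)⁻¹) := by rw [← up_add, hc, sub_eq_add_neg]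
          _ = up 1 * ((wm : SL2) * dg ω * wm⁻¹) * (up 1)⁻¹ * dg ω := by rw [← e4, e1, e3]; group
          _ = _ := by group
      rw [h]
      exact mul_mem (mul_mem (mul_mem hg hh) (inv_mem hg)) hh
    have hall : ∀ u : F, up u ∈ H := by
      intro u
      obtain ⟨P, hP⟩ := hgen (u * c⁻¹)
      have hu : u = Polynomial.aeval ((ω : F) ^ 2) P * c := by rw [hP, inv_mul_cancel_right₀ hc0]
      rw [hu]
      clear hP hu
      induction P using Polynomial.induction_on' with
      | add P Q hP hQ => rw [map_add, add_mul, up_add]; exact mul_mem hP hQ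
      | monomial i a =>
        rw [Polynomial.aeval_monomial]
        have h1 : up (((ω : F) ^ 2) ^ i * c) ∈ H := by
          have : dg ω ^ i * up c * (dg ω ^ i)⁻¹ ∈ H :=
            mul_mem (mul_mem (pow_mem hh i) hcH) (inv_mem (pow_mem hh i))
          rw [dg_pow, dg_up, mul_inv_cancel_right] at this
          push_cast at this
          rwa [← pow_mul, mul_comm i 2, pow_mul] at this
        have h2' := pow_mem h1 a.val
        rw [up_pow] at h2'
        rwa [show algebraMap (ZMod p) F a = (a.val : F) by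
          rw [← map_natCast (algebraMap (ZMod p) F), ZMod.natCast_zmod_val], mul_assoc]
    rw [← hm, Subgroup.closure_le]
    rintro y (rfl | rfl | rfl)
    · exact hall 1
    · exact hh
    · have := mul_mem (inv_mem (hall 1)) hg
      rwa [inv_mul_cancel_left] at this

/-- Combinatorial data of the permuting group. -/
structure WData (n : ℕ) (W : Type*) [Group W] where
  /-- the action -/
  act : W →* Perm (Fin (n + 2))
  two : ∀ a b, a ≠ b → ∃ w, act w 0 = a ∧ act w 1 = b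
  /-- generators of the stabiliser of the first plane -/
  stab : List W
  stab_mem : ∀ a ∈ stab, act a 0 = 0
  stab_gen : ∀ w, act w 0 = 0 → w ∈ Subgroup.closure {x | x ∈ stab}
  /-- generators of the stabiliser of the first two planes -/
  pair : List W
  pair_mem : ∀ a ∈ pair, (act a 0 = 0 ∧ act a 1 = 1) ∨ (act a 0 = 1 ∧ act a 1 = 0)
  pair_gen : ∀ w, (act w 0 = 0 ∧ act w 1 = 1) ∨ (act w 0 = 1 ∧ act w 1 = 0) →
    w ∈ Subgroup.closure {x | x ∈ pair}
  pair_trans : ∀ l : Fin (n + 2), l ≠ 0 → l ≠ 1 → ∃ w,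
    ((act w 0 = 0 ∧ act w 1 = 1) ∨ (act w 0 = 1 ∧ act w 1 = 0)) ∧ act w 2 = l
  /-- representatives of the pairs -/
  reps : List W
  reps_spec : ∀ w, ((act w 0 = 0 ∧ act w 1 = 1) ∨ (act w 0 = 1 ∧ act w 1 = 0)) ∨ ∃ u v p,
    ((act u 0 = 0 ∧ act u 1 = 1) ∨ (act u 0 = 1 ∧ act u 1 = 0)) ∧
    ((act v 0 = 0 ∧ act v 1 = 1) ∨ (act v 0 = 1 ∧ act v 1 = 0)) ∧ p ∈ reps ∧
      (w = u * p * v ∨ w = u * p⁻¹ * v)

variable {X : Type*} [Group X]

/-- The finitely many relations. -/
structure MinRels (S : Setting F n W X) (D : WData n W) (ω : Fˣ) (a b : SL2) (C : List Fˣ) : Prop where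
  fix_m : ∀ g ∈ D.pair, Commute (S.τ g) S.m
  SS_aa : Commute (S.ρ a) (S.sl 1 a)
  SS_ab : Commute (S.ρ a) (S.sl 1 b)
  SS_bb : Commute (S.ρ b) (S.sl 1 b)
  far_zero : n = 0 → Commute S.m (S.ρ (dg ω) * S.sl 1 (dg ω⁻¹)) ∧ Commute S.m (S.sl 1 (up 1))
  far_pos : 0 < n → Commute S.m (S.ρ (dg ω) * S.sl 1 (dg ω⁻¹) * S.sl 2 (up 1)) ∧
    Commute S.m (S.sl 1 (up 1) * S.sl 2 (dg ω)) ∧ Commute S.m (S.sl 2 wm)
  law : ∀ c ∈ C, S.m * (S.sl 1 (wm * dg (-c)) * S.m * (S.sl 1 (wm * dg (-c)))⁻¹) =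
      S.sl 1 (lo (c : F)) * S.m * (S.sl 1 (lo (c : F)))⁻¹ * S.ρ (up (c : F))
  comm : ∀ p ∈ D.reps, Commute S.m (S.cw p S.m)

theorem MinRels.rels [Fintype F] {S : Setting F n W X} {D : WData n W} (hact : D.act = S.act)
    {ω : Fˣ} (hω : ∀ y : Fˣ, y ∈ Subgroup.zpowers ω) {a b : SL2}
    (hab : Subgroup.closure ({a, b} : Set SL2) = ⊤) {C : List Fˣ}
    (hC : ∀ c : Fˣ, ∃ c₀ ∈ C, ∃ s : Fˣ, c = c₀ * s ^ 2) (h : MinRels S D ω a b C) : Rels S := by
  classical
  obtain ⟨p, hch⟩ := CharP.exists F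
  haveI hpf : Fact p.Prime := ⟨CharP.char_is_prime F p⟩
  letI : Algebra (ZMod p) F := ZMod.algebra F p
  have hgen := fun u => gen_of_generator (p := p) ω hω u
  have hm := closure_model (p := p) ω hgen
  have fixm : ∀ w, S.Stab01 w → S.cw w S.m = S.m := by
    intro w hw
    have hc : Commute S.m (S.τ w) := commute_map_of_closure S.τ (fun g hg => (h.fix_m g hg).symm)
      (D.pair_gen w (by rw [hact]; exact hw))
    rw [Setting.cw_apply, hc.symm.eq, mul_inv_cancel_right]
  have SSba : Commute (S.ρ b) (S.sl 1 a) := by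
    have h1 := S.commute_cw S.sw h.SS_ab
    rw [← S.sl_zero, S.cw_sl, S.cw_sl, S.sw_zero, S.sw_one, S.sl_zero] at h1
    exact h1.symm
  have SS : ∀ g g', Commute (S.ρ g) (S.sl 1 g') := by
    have hA : ∀ g', Commute (S.ρ a) (S.sl 1 g') ∧ Commute (S.ρ b) (S.sl 1 g') := fun g' =>
      ⟨commute_map_of_closure (S.sl 1) (by rintro y (rfl | rfl); exacts [h.SS_aa, h.SS_ab])
        (hab ▸ Subgroup.mem_top g'),
      commute_map_of_closure (S.sl 1) (by rintro y (rfl | rfl); exacts [SSba, h.SS_bb])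
        (hab ▸ Subgroup.mem_top g')⟩
    intro g g'
    exact (commute_map_of_closure S.ρ (by
      rintro y (rfl | rfl)
      exacts [(hA g').1.symm, (hA g').2.symm]) (hab ▸ Subgroup.mem_top g)).symm
  have slc : ∀ {k l : Fin (n + 2)}, k ≠ l → ∀ g g', Commute (S.sl k g) (S.sl l g') := by
    intro k l hkl g g'
    obtain ⟨w, h0, h1⟩ := S.two k l hkl
    rw [← h0, ← h1, ← S.cw_sl, ← S.cw_sl, S.sl_zero]
    exact S.commute_cw w (SS g g')
  -- the three merged relations
  have hq0 : 1 < Fintype.card F := Fintype.one_lt_card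
  have hωq : ω ^ (Fintype.card F - 1) = 1 := by
    refine Units.ext ?_
    push_cast
    exact FiniteField.pow_card_sub_one_eq_one _ ω.ne_zero
  have hco : Nat.Coprime p (Fintype.card F - 1) := by
    obtain ⟨d, -, hd⟩ := FiniteField.card F p
    refine (Nat.Prime.coprime_iff_not_dvd hpf.out).2 fun hdvd => ?_
    have hpq : p ∣ Fintype.card F := hd ▸ dvd_pow_self p d.pos.ne'
    have := Nat.dvd_sub hpq hdvd
    rw [show Fintype.card F - (Fintype.card F - 1) = 1 by omega] at this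
    exact hpf.out.one_lt.ne' (Nat.dvd_one.1 this)
  have hx1 : ∀ k : Fin (n + 2), S.sl k (up (1 : F)) ^ p = 1 := fun k => by
    rw [← map_pow, up_pow, CharP.cast_eq_zero, zero_mul, up_zero, map_one]
  have hh1 : ∀ k : Fin (n + 2), S.sl k (dg ω) ^ (Fintype.card F - 1) = 1 := fun k => by
    rw [← map_pow, dg_pow, hωq, dg_one, map_one]
  set Dt : Fˣ → X := fun t => S.ρ (dg t) * S.sl 1 (dg t⁻¹) with hDt
  have hD1 : (Dt ω) ^ (Fintype.card F - 1) = 1 := by
    rw [hDt, (SS _ _).mul_pow, ← map_pow, ← map_pow, dg_pow, dg_pow, inv_pow, hωq, inv_one, dg_one,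
      map_one, map_one, one_mul]
  have h21 : ∀ (hn : 0 < n), (2 : Fin (n + 2)) ≠ 0 ∧ (2 : Fin (n + 2)) ≠ 1 := fun hn => by
    have e : ((2 : Fin (n + 2)) : ℕ) = 2 := Nat.mod_eq_of_lt (show 2 < n + 2 by omega)
    constructor <;> intro h <;> rw [h] at e <;> simp at e
  have base : Commute S.m (Dt ω) ∧ Commute S.m (S.sl 1 (up 1)) ∧
      (0 < n → ∀ g, Commute S.m (S.sl 2 g)) := by
    rcases Nat.eq_zero_or_pos n with hn | hn
    · exact ⟨(h.far_zero hn).1, (h.far_zero hn).2, fun h => absurd h (by omega)⟩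
    obtain ⟨r1, r2, r3⟩ := h.far_pos hn
    have c0 : Commute (Dt ω) (S.sl 2 (up 1)) := by
      have e0 : S.ρ (dg ω) = S.sl 0 (dg ω) := (S.sl_zero _).symm
      simp only [hDt, e0]
      exact (slc (h21 hn).1.symm _ _).mul_left (slc (h21 hn).2.symm _ _)
    obtain ⟨a1, a2⟩ := commute_of_coprime c0 hD1 (hx1 2) hco r1
    obtain ⟨b1, b2⟩ := commute_of_coprime (slc (h21 hn).2.symm _ _) (hx1 1) (hh1 2) hco.symm r2
    refine ⟨a1, b1, fun _ g => commute_map_of_closure (S.sl 2) ?_ (hm ▸ Subgroup.mem_top g)⟩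
    rintro y (rfl | rfl | rfl)
    exacts [a2, b2, r3]
  have Dmul : ∀ s t, Dt (s * t) = Dt s * Dt t := fun s t => by
    simp only [hDt]
    rw [mul_inv, dg_mul, dg_mul, map_mul, map_mul]
    calc S.ρ (dg s) * S.ρ (dg t) * (S.sl 1 (dg s⁻¹) * S.sl 1 (dg t⁻¹))
        = S.ρ (dg s) * (S.ρ (dg t) * S.sl 1 (dg s⁻¹)) * S.sl 1 (dg t⁻¹) := by group
      _ = _ := by rw [(SS _ _).eq]; group
  have Dm : ∀ t, Commute S.m (Dt t) := by
    intro t
    obtain ⟨k, rfl⟩ := mem_powers_iff_mem_zpowers.mpr (hω t)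
    induction k with
    | zero => simp [hDt, dg_one]
    | succ k ih =>
      show Commute S.m (Dt (ω ^ (k + 1)))
      rw [pow_succ, Dmul]
      exact ih.mul_right base.1
  have hconj : ∀ t : Fˣ, S.ρ (dg t) * S.m * (S.ρ (dg t))⁻¹ =
      S.sl 1 (dg t) * S.m * (S.sl 1 (dg t))⁻¹ := by
    intro t
    have e : S.sl 1 (dg t⁻¹) = (S.sl 1 (dg t))⁻¹ := by
      rw [← map_inv]
      congr 1
      exact eq_inv_of_mul_eq_one_left (by rw [← dg_mul, inv_mul_cancel, dg_one])
    have h1 := (Dm t).eq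
    simp only [hDt] at h1
    rw [e, ((SS (dg t) (dg t)).inv_right).eq] at h1
    calc S.ρ (dg t) * S.m * (S.ρ (dg t))⁻¹
        = S.sl 1 (dg t) * ((S.sl 1 (dg t))⁻¹ * S.ρ (dg t) * S.m) * (S.ρ (dg t))⁻¹ := by group
      _ = _ := by rw [← h1]; group
  have mx : ∀ d, Commute S.m (S.sl 1 (up d)) := by
    intro d
    obtain ⟨P, rfl⟩ := hgen d
    induction P using Polynomial.induction_on' with
    | add P Q hP hQ => rw [map_add, up_add, map_mul]; exact hP.mul_right hQ
    | monomial i c =>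
      rw [Polynomial.aeval_monomial,
        show algebraMap (ZMod p) F c = (c.val : F) by
          rw [← map_natCast (algebraMap (ZMod p) F), ZMod.natCast_zmod_val]]
      have h1 : Commute S.m (S.sl 1 (up (((ω : F) ^ 2) ^ i))) := by
        set u := Dt (ω ^ i)⁻¹
        have e : u * S.sl 1 (up 1) * u⁻¹ = S.sl 1 (up (((ω : F) ^ 2) ^ i)) := by
          have e1 : S.sl 1 (dg (ω ^ i)) * S.sl 1 (up (1 : F)) * (S.sl 1 (dg (ω ^ i)))⁻¹ =
              S.sl 1 (up (((ω : F) ^ 2) ^ i)) := by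
            rw [← map_mul, dg_up, map_mul, mul_inv_cancel_right]
            congr 2
            push_cast
            ring
          calc u * S.sl 1 (up 1) * u⁻¹ = S.ρ (dg (ω ^ i)⁻¹) *
              (S.sl 1 (dg (ω ^ i)) * S.sl 1 (up (1 : F)) * (S.sl 1 (dg (ω ^ i)))⁻¹) *
                (S.ρ (dg (ω ^ i)⁻¹))⁻¹ := by simp only [u, hDt, inv_inv]; group
            _ = _ := by rw [e1, (SS _ _).eq, mul_inv_cancel_right]
        rw [← e]
        exact ((Dm _).mul_right base.2.1).mul_right (Dm _).inv_right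
      have h2 := h1.pow_right c.val
      rwa [← map_pow, up_pow] at h2
  refine ⟨fixm, SS, fun l h0 h1 g => ?_, mx, Dm, fun c => ?_, fun w => ?_⟩
  · obtain ⟨w, hw, hw2⟩ := D.pair_trans l h0 h1
    rw [hact] at hw hw2
    have hn : 0 < n := by
      by_contra hn0
      have : (l : ℕ) < 2 := by have := l.2; omega
      have v0 : (l : ℕ) ≠ 0 := fun e => h0 (Fin.ext e)
      exact h1 (Fin.ext (by simp; omega))
    have h2 := S.commute_cw w (base.2.2 hn g)
    rwa [fixm w hw, S.cw_sl, hw2] at h2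
  · obtain ⟨c₀, hc₀, s, rfl⟩ := hC c
    set r := S.ρ (dg s) with hr
    set z := S.sl 1 (dg s⁻¹) with hz
    set d := S.sl 1 (dg s) with hd
    have key : ∀ g, Dt s * (S.sl 1 g * S.m * (S.sl 1 g)⁻¹) * (Dt s)⁻¹ =
        S.sl 1 (dg s⁻¹ * g * dg s) * S.m * (S.sl 1 (dg s⁻¹ * g * dg s))⁻¹ := by
      intro g
      have e1 : Dt s * S.sl 1 g = S.sl 1 (dg s⁻¹ * g) * r := by
        simp only [hDt, hr]
        rw [map_mul, mul_assoc, ← map_mul (S.sl 1), (SS _ _).eq, map_mul]
      calc Dt s * (S.sl 1 g * S.m * (S.sl 1 g)⁻¹) * (Dt s)⁻¹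
          = (Dt s * S.sl 1 g) * S.m * (Dt s * S.sl 1 g)⁻¹ := by group
        _ = S.sl 1 (dg s⁻¹ * g) * (r * S.m * r⁻¹) * (S.sl 1 (dg s⁻¹ * g))⁻¹ := by rw [e1]; group
        _ = _ := by rw [hr, hconj, map_mul (S.sl 1) (dg s⁻¹ * g)]; group
    have kx : Dt s * S.ρ (up (c₀ : F)) * (Dt s)⁻¹ = S.ρ (up ((s : F) ^ 2 * c₀)) := by
      simp only [hDt]
      calc S.ρ (dg s) * z * S.ρ (up (c₀ : F)) * (S.ρ (dg s) * z)⁻¹
          = S.ρ (dg s) * (z * S.ρ (up (c₀ : F))) * z⁻¹ * (S.ρ (dg s))⁻¹ := by group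
        _ = S.ρ (dg s) * S.ρ (up (c₀ : F)) * (S.ρ (dg s))⁻¹ := by rw [hz, ← (SS _ _).eq]; group
        _ = _ := by rw [← map_mul, dg_up, map_mul, mul_inv_cancel_right]
    have hD : Dt s * S.m * (Dt s)⁻¹ = S.m := by rw [← (Dm s).eq, mul_inv_cancel_right]
    have h1 := congrArg (fun y => Dt s * y * (Dt s)⁻¹) (h.law c₀ hc₀)
    rw [show ∀ u v : X, Dt s * (u * v) * (Dt s)⁻¹ = (Dt s * u * (Dt s)⁻¹) * (Dt s * v * (Dt s)⁻¹)
        from fun u v => by group, hD, key,
      show ∀ u v : X, Dt s * (u * v) * (Dt s)⁻¹ = (Dt s * u * (Dt s)⁻¹) * (Dt s * v * (Dt s)⁻¹)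
        from fun u v => by group, key, kx, dg_lo, dg_wm, neg_mul] at h1
    push_cast
    rw [mul_comm (c₀ : F)]
    exact h1
  · rcases D.reps_spec w with hw | ⟨u, v, q, hu, hv, hq, hwe⟩
    · rw [hact] at hw; rw [fixm w hw]
    rw [hact] at hu hv
    have hc : Commute S.m (S.cw q S.m) := h.comm q hq
    have hc' : Commute S.m (S.cw q⁻¹ S.m) := by
      have h1 := S.commute_cw q⁻¹ hc
      rw [S.cw_inv_cancel] at h1
      exact h1.symm
    rcases hwe with rfl | rfl
    · rw [S.cw_mul, fixm v hv, S.cw_mul]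
      have h1 := S.commute_cw u hc
      rwa [fixm u hu] at h1
    · rw [S.cw_mul, fixm v hv, S.cw_mul]
      have h1 := S.commute_cw u hc'
      rwa [fixm u hu] at h1

end Cfsg.Agent.H68.SpPres
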