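import Cfsg.Agent.H68.SpPres.Words
import Cfsg.Agent.H68.SpPres.Spread
import Cfsg.Agent.H99.HasPres

/-!
The presentation of the symplectic group from a presentation of a permuting group and one of `SL(2)`.
-/

set_option autoImplicit false
set_option linter.unusedSectionVars false
set_option linter.unusedSimpArgs false

namespace Cfsg.Agent.H68.SpPres

open Cfsg.Agent.Symplectic Cfsg.Agent.H68.SpAmalgam Cfsg.Agent.H99.ShortPres Equiv
open Cfsg.Agent.H99.BoundedPres

attribute [-simp] spB_apply

/-- Relation pairs forcing a bijection give a presentation. -/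
theorem hasPres_of_bijective {T : Type*} [Group T] {k N : ℕ}
    (l : List (FreeGroup (Fin k) × FreeGroup (Fin k))) (hl : l.length ≤ N) (f : Fin k → T)
    (hsat : ∀ r ∈ l, FreeGroup.lift f r.1 = FreeGroup.lift f r.2)
    (hbij : ∀ (G : Type) [Group G] (π : FreeGroup (Fin k) →* G), Function.Surjective π →
      (∀ r ∈ l, π r.1 = π r.2) → ∀ θ : G →* T, θ.comp π = FreeGroup.lift f →
        Function.Bijective θ) : HasPres T k N := by
  classical
  set R : Finset (FreeGroup (Fin k)) := (l.map fun r => r.1 * r.2⁻¹).toFinset with hR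
  have hmem : ∀ r, r ∈ R ↔ ∃ a ∈ l, a.1 * a.2⁻¹ = r := by
    intro r
    simp [hR]
  have hrel : ∀ r ∈ (↑R : Set (FreeGroup (Fin k))), FreeGroup.lift f r = 1 := by
    intro r hr
    obtain ⟨a, ha, rfl⟩ := (hmem r).mp (Finset.mem_coe.mp hr)
    rw [map_mul, map_inv, hsat a ha, mul_inv_cancel]
  let θ := PresentedGroup.toGroup hrel
  have hθ : θ.comp (PresentedGroup.mk (↑R : Set (FreeGroup (Fin k)))) = FreeGroup.lift f := by
    ext i
    simp only [MonoidHom.comp_apply, FreeGroup.lift_apply_of]
    exact PresentedGroup.toGroup.of hrel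
  have hb : Function.Bijective θ := hbij (PresentedGroup (↑R : Set (FreeGroup (Fin k))))
    (PresentedGroup.mk _) (PresentedGroup.mk_surjective _)
    (fun a ha => PresentedGroup.mk_eq_mk_of_mul_inv_mem
      (Finset.mem_coe.mpr ((hmem _).mpr ⟨a, ha, rfl⟩))) θ hθ
  exact HasPres.of_presentation
    (((List.toFinset_card_le _).trans (by rw [List.length_map]; exact hl)) : R.card ≤ N)
    (MulEquiv.ofBijective θ hb)

/-- `u` moves the first three planes to the planes from `k` on. -/
def Triple {n : ℕ} {W : Type*} [Group W] (act : W →* Perm (Fin (n + 2))) (u : W) (k : ℕ) : Prop :=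
  (act u 0 : ℕ) = k ∧ (act u 1 : ℕ) = k + 1 ∧ (act u 2 : ℕ) = k + 2

/-- The data of the permuting group needed for a presentation. -/
structure WPlan (n : ℕ) (W : Type*) [Group W] extends WData n W where
  /-- elements identified one by one -/
  all : List W
  /-- three-cycles identified on the first three planes -/
  tri : List W
  tri_pos : ∀ c ∈ tri, 0 < n
  tri_act : ∀ c ∈ tri, act c = swap 0 1 * swap 1 2
  gen : ∀ U : Subgroup W, (∀ c ∈ all, c ∈ U) →
    (∀ c ∈ tri, ∀ u k, Triple act u k → u * c * u⁻¹ ∈ U) → U = ⊤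
  /-- the levels of the extra relation over the field with two elements -/
  orthK : List (Fin (n + 2))
  orth_spec : ∀ k : Fin (n + 2), (k : ℕ) + 2 < n + 2 →
    k ∈ orthK ∨ ((0 : Fin (n + 2)) ∈ orthK ∧ ∃ u, Triple act u k)

variable {F : Type*} [Field F]

local notation "SL2" => Matrix.SpecialLinearGroup (Fin 2) F

theorem val_two {n : ℕ} (hn : 0 < n) : ((2 : Fin (n + 2)) : ℕ) = 2 :=
  Nat.mod_eq_of_lt (show 2 < n + 2 by omega)

open Classical in
/-- The levels at which the extra relation is imposed. -/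
noncomputable def orthList (F : Type*) [Field F] {n : ℕ} {W : Type*} [Group W] (P : WPlan n W) :
    List (Fin (n + 2)) :=
  if ∃ a : F, a ≠ 0 ∧ a ≠ 1 then [] else P.orthK

/-- The presentation. -/
theorem hasPres_sp [Fintype F] {n : ℕ} {W : Type} [Group W] {k l ls : ℕ} (hW : HasPres W k l)
    (hS : HasPres SL2 3 ls) (P : WPlan n W) {ω : Fˣ} (hω : ∀ y : Fˣ, y ∈ Subgroup.zpowers ω)
    (C : List Fˣ) (hC : ∀ c : Fˣ, ∃ c₀ ∈ C, ∃ s : Fˣ, c = c₀ * s ^ 2) :
    HasPres (Sp (n + 2) F) (k + 3 + 1)
      (l + ls + 2 * P.stab.length + 3 + P.pair.length + (if n = 0 then 2 else 3) + C.length +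
        P.reps.length + P.all.length + P.tri.length + (orthList F P).length) := by
  classical
  obtain ⟨fW, RW, hRW, genW, satW, univW⟩ := hW
  obtain ⟨fS, RS, hRS, genS, satS, univS⟩ := hS
  choose wd hwd using fun y => exists_word genW y
  choose sd hsd using fun y => exists_word genS y
  obtain ⟨ga, gb, hab⟩ := exists_sl_two (F := F)
  let iW : FreeGroup (Fin k) →* FreeGroup (Fin (k + 3 + 1)) :=
    FreeGroup.lift fun i => FreeGroup.of (Fin.castAdd 1 (Fin.castAdd 3 i))
  let iS : FreeGroup (Fin 3) →* FreeGroup (Fin (k + 3 + 1)) :=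
    FreeGroup.lift fun i => FreeGroup.of (Fin.castAdd 1 (Fin.natAdd k i))
  let mw : FreeGroup (Fin (k + 3 + 1)) := FreeGroup.of (Fin.natAdd (k + 3) 0)
  let f : Fin (k + 3 + 1) → Sp (n + 2) F :=
    Fin.append (Fin.append (fun i => pm (P.act (fW i))) (fun i => emb 0 (fS i))) ![E (e 0) (e 1)]
  let tw : W → FreeGroup (Fin (k + 3 + 1)) := fun w => iW (wd w)
  let rr : SL2 → FreeGroup (Fin (k + 3 + 1)) := fun g => iS (sd g)
  have hpt : ∀ j : Fin (n + 2), ∃ w, P.act w 0 = j := fun j => by
    obtain ⟨b, hb⟩ := exists_ne j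
    obtain ⟨w, hw, -⟩ := P.two j b (Ne.symm hb)
    exact ⟨w, hw⟩
  choose ptd hptd using hpt
  let slw : Fin (n + 2) → SL2 → FreeGroup (Fin (k + 3 + 1)) :=
    fun j g => tw (ptd j) * rr g * (tw (ptd j))⁻¹
  let cm : W → FreeGroup (Fin (k + 3 + 1)) := fun w => tw w * mw * (tw w)⁻¹
  -- the values in the symplectic group
  have lW : ∀ w, FreeGroup.lift f (iW w) = pm (P.act (FreeGroup.lift fW w)) := by
    intro w
    refine DFunLike.congr_fun (f := (FreeGroup.lift f).comp iW)
      (g := ((pm (F := F)).comp P.act).comp (FreeGroup.lift fW)) (FreeGroup.ext_hom _ _ fun i => ?_) w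
    simp [iW, f]
  have lS : ∀ w, FreeGroup.lift f (iS w) = emb 0 (FreeGroup.lift fS w) := by
    intro w
    refine DFunLike.congr_fun (f := (FreeGroup.lift f).comp iS)
      (g := (emb (0 : Fin (n + 2))).comp (FreeGroup.lift fS)) (FreeGroup.ext_hom _ _ fun i => ?_) w
    simp only [MonoidHom.comp_apply, iS, f, FreeGroup.lift_apply_of, Fin.append_left, Fin.append_right]
  have ltw : ∀ w, FreeGroup.lift f (tw w) = pm (P.act w) := fun w => by rw [lW, hwd]
  have lrr : ∀ g, FreeGroup.lift f (rr g) = emb 0 g := fun g => by rw [lS, hsd]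
  have lmw : FreeGroup.lift f mw = E (e 0) (e 1) := by
    simp only [mw, f, FreeGroup.lift_apply_of, Fin.append_right]
    rfl
  have lsl : ∀ j g, FreeGroup.lift f (slw j g) = emb j g := fun j g => by
    rw [map_mul, map_mul, map_inv, ltw, lrr, pm_emb, hptd]
  have lcm : ∀ w, FreeGroup.lift f (cm w) = E (e (P.act w 0)) (e (P.act w 1)) := fun w => by
    rw [map_mul, map_mul, map_inv, ltw, lmw]
    have := pm_E (F := F) (P.act w) 0 1 1
    rwa [one_smul, one_smul] at this
  let VF : Set ℕ → Subgroup (FreeGroup (Fin (k + 3 + 1))) := fun K => Vgen P.act slw cm 0 1 K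
  have pre : ∀ K g, g ∈ mV (F := F) P.act K → ∃ v ∈ VF K, FreeGroup.lift f v = g := by
    intro K g hg
    rw [show mV (F := F) P.act K = (VF K).map (FreeGroup.lift f) from
      (map_Vgen _ P.act lsl lcm 0 1 K).symm] at hg
    exact hg
  -- the words
  choose vA hvA lvA using fun c : W => pre _ _ (pm_mem_univ (F := F) P.act P.two (P.act c))
  have htri : ∀ c : W, ∃ v, c ∈ P.tri →
      v ∈ VF {0, 1, 2} ∧ FreeGroup.lift f v = pm (P.act c) := by
    intro c
    by_cases hc : c ∈ P.tri
    swap
    · exact ⟨1, fun h => absurd h hc⟩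
    have hn := P.tri_pos c hc
    obtain ⟨v, hv, hv'⟩ := pre {0, 1, 2} (pm (P.act c)) (by
      rw [P.tri_act c hc, map_mul]
      exact mul_mem (pm_swap_mem P.act P.two (by simp) (by simp) (by simp))
        (pm_swap_mem P.act P.two (by rw [val_two hn]; simp) (by simp) (by rw [val_two hn]; simp)))
    exact ⟨v, fun _ => ⟨hv, hv'⟩⟩
  choose vT hvT using htri
  have horth : ∀ j : Fin (n + 2), ∃ (w : W) (v v' : FreeGroup (Fin (k + 3 + 1))),
      ∀ h : (j : ℕ) + 2 < n + 2, P.act w 0 = j ∧ P.act w 1 = ⟨(j : ℕ) + 1, by omega⟩ ∧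
        v ∈ VF {(j : ℕ) + 1, (j : ℕ) + 2} ∧ v' ∈ VF {(j : ℕ) + 1, (j : ℕ) + 2} ∧
        FreeGroup.lift f v =
          E (-(SpAmalgam.f ⟨(j : ℕ) + 1, by omega⟩)) (e ⟨(j : ℕ) + 2, h⟩) ∧
        FreeGroup.lift f v' =
          pm (swap (⟨(j : ℕ) + 1, by omega⟩ : Fin (n + 2)) ⟨(j : ℕ) + 2, h⟩) := by
    intro j
    by_cases h : (j : ℕ) + 2 < n + 2
    swap
    · exact ⟨1, 1, 1, fun h' => absurd h' h⟩
    obtain ⟨w, h0, h1⟩ := P.two j ⟨(j : ℕ) + 1, by omega⟩ (fun e => by
      have := congrArg Fin.val e; simp at this)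
    obtain ⟨v, hv, lv⟩ := pre _ _ (exists_shear (F := F) P.act P.two
      (i := ⟨(j : ℕ) + 1, by omega⟩) (j := ⟨(j : ℕ) + 2, h⟩) (K := {(j : ℕ) + 1, (j : ℕ) + 2})
      rfl (by simp) (by simp)).1
    obtain ⟨v', hv', lv'⟩ := pre _ _ (pm_swap_mem (F := F) P.act P.two
      (i := ⟨(j : ℕ) + 1, by omega⟩) (j := ⟨(j : ℕ) + 2, h⟩) (K := {(j : ℕ) + 1, (j : ℕ) + 2})
      rfl (by simp) (by simp))
    exact ⟨w, v, v', fun _ => ⟨h0, h1, hv, hv', lv, lv'⟩⟩
  choose wO vO vO' hO using horth
  -- the relations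
  let cp : FreeGroup (Fin (k + 3 + 1)) → FreeGroup (Fin (k + 3 + 1)) →
      FreeGroup (Fin (k + 3 + 1)) × FreeGroup (Fin (k + 3 + 1)) := fun x y => (x * y, y * x)
  let Dw := rr (dg ω) * slw 1 (dg ω⁻¹)
  let lR := RW.toList.map (fun r => (iW r, (1 : FreeGroup (Fin (k + 3 + 1))))) ++
    RS.toList.map (fun r => (iS r, (1 : FreeGroup (Fin (k + 3 + 1)))))
  let lF := P.stab.flatMap fun a => [cp (tw a) (rr ga), cp (tw a) (rr gb)]
  let lSS := [cp (rr ga) (slw 1 ga), cp (rr ga) (slw 1 gb), cp (rr gb) (slw 1 gb)]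
  let lM := P.pair.map fun a => cp (tw a) mw
  let lZ := if n = 0 then [cp mw Dw, cp mw (slw 1 (up 1))]
    else [cp mw (Dw * slw 2 (up 1)), cp mw (slw 1 (up 1) * slw 2 (dg ω)), cp mw (slw 2 wm)]
  let lC := C.map fun c => (mw * (slw 1 (wm * dg (-c)) * mw * (slw 1 (wm * dg (-c)))⁻¹),
    slw 1 (lo (c : F)) * mw * (slw 1 (lo (c : F)))⁻¹ * rr (up (c : F)))
  let lP := P.reps.map fun p => cp mw (cm p)
  let lA := P.all.map fun c => (tw c, vA c)
  let lT := P.tri.map fun c => (tw c, vT c)
  let lO := (orthList F P).map fun (j : Fin (n + 2)) => if (j : ℕ) + 2 < n + 2 then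
      (cm (wO j) * (vO' j * cm (wO j) * (vO' j)⁻¹), vO j * cm (wO j) * (vO j)⁻¹) else (1, 1)
  let rl := lR ++ lF ++ lSS ++ lM ++ lZ ++ lC ++ lP ++ lA ++ lT ++ lO
  refine hasPres_of_bijective rl ?_ f ?_ ?_
  · have hF : lF.length = 2 * P.stab.length := by
      simp [lF, List.length_flatMap, List.map_const', List.sum_replicate, mul_comm]
    have hZ : lZ.length = if n = 0 then 2 else 3 := by
      simp only [lZ]; split_ifs <;> rfl
    simp only [rl, List.length_append, hF, hZ]
    simp only [lR, lSS, lM, lC, lP, lA, lT, lO, List.length_append, List.length_map, List.length_cons,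
      List.length_nil, Finset.length_toList]
    omega
  · let M := model (F := F) P.act P.two
    have hR := model_rels (F := F) P.act P.two
    have lc : ∀ x y : FreeGroup (Fin (k + 3 + 1)),
        Commute (FreeGroup.lift f x) (FreeGroup.lift f y) →
          FreeGroup.lift f (cp x y).1 = FreeGroup.lift f (cp x y).2 := fun x y h => by
      simp only [cp, map_mul]; exact h.eq
    have SSm : ∀ g g', Commute (emb (0 : Fin (n + 2)) g) (emb 1 g') := fun g g' => by
      have := hR.SS g g'
      rwa [model_sl] at this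
    have fm : ∀ a ∈ P.pair, Commute (pm (P.act a)) (E (e 0) (e 1) : Sp (n + 2) F) := fun a ha => by
      have := hR.fix_m a (P.pair_mem a ha)
      rw [Setting.cw_apply, mul_inv_eq_iff_eq_mul] at this
      exact this
    intro r hr
    simp only [rl, List.mem_append] at hr
    rcases hr with ((((((((hr | hr) | hr) | hr) | hr) | hr) | hr) | hr) | hr) | hr
    · simp only [lR, List.mem_append, List.mem_map, Finset.mem_toList] at hr
      rcases hr with ⟨s, hs, rfl⟩ | ⟨s, hs, rfl⟩
      · simp only [lW, satW s hs, map_one]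
      · simp only [lS, satS s hs, map_one]
    · simp only [lF, List.mem_flatMap, List.mem_cons, List.not_mem_nil, or_false] at hr
      obtain ⟨a, ha, rfl | rfl⟩ := hr <;> refine lc _ _ ?_ <;> rw [ltw, lrr] <;>
        exact pm_commute_emb (P.stab_mem a ha) _
    · simp only [lSS, List.mem_cons, List.not_mem_nil, or_false] at hr
      rcases hr with rfl | rfl | rfl <;> refine lc _ _ ?_ <;> rw [lrr, lsl] <;> exact SSm _ _
    · simp only [lM, List.mem_map] at hr
      obtain ⟨a, ha, rfl⟩ := hr
      refine lc _ _ ?_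
      rw [ltw, lmw]
      exact fm a ha
    · have hD : Commute (E (e 0) (e 1) : Sp (n + 2) F) (emb 0 (dg ω) * emb 1 (dg ω⁻¹)) := by
        have := hR.m_h ω
        rwa [model_sl] at this
      have hx : Commute (E (e 0) (e 1) : Sp (n + 2) F) (emb 1 (up 1)) := by
        have := hR.m_x 1
        rwa [model_sl] at this
      have lD : FreeGroup.lift f Dw = emb 0 (dg ω) * emb 1 (dg ω⁻¹) := by
        rw [map_mul, lrr, lsl]
      simp only [lZ] at hr
      split_ifs at hr with hn <;> simp only [List.mem_cons, List.not_mem_nil, or_false] at hr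
      · rcases hr with rfl | rfl <;> refine lc _ _ ?_
        · rw [lmw, lD]; exact hD
        · rw [lmw, lsl]; exact hx
      · have hfar : ∀ g, Commute (E (e 0) (e 1) : Sp (n + 2) F) (emb 2 g) := fun g => by
          have e2 := val_two (n := n) (by omega)
          have := hR.far 2 (fun h => by rw [h] at e2; simp at e2) (fun h => by rw [h] at e2; simp at e2) g
          rwa [model_sl] at this
        rcases hr with rfl | rfl | rfl <;> refine lc _ _ ?_
        · rw [map_mul, lmw, lD, lsl]; exact hD.mul_right (hfar _)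
        · rw [map_mul, lmw, lsl, lsl]; exact hx.mul_right (hfar _)
        · rw [lmw, lsl]; exact hfar _
    · simp only [lC, List.mem_map] at hr
      obtain ⟨c, -, rfl⟩ := hr
      have := hR.law_base c
      rw [model_sl, model_sl] at this
      simp only [map_mul (FreeGroup.lift f), map_inv (FreeGroup.lift f), lsl, lmw, lrr]
      exact this
    · simp only [lP, List.mem_map] at hr
      obtain ⟨p, -, rfl⟩ := hr
      refine lc _ _ ?_
      rw [lmw, lcm, ← model_cw P.act P.two]
      exact hR.comm p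
    · simp only [lA, List.mem_map] at hr
      obtain ⟨c, -, rfl⟩ := hr
      simp only [ltw, lvA]
    · simp only [lT, List.mem_map] at hr
      obtain ⟨c, hc, rfl⟩ := hr
      simp only [ltw, (hvT c hc).2]
    · simp only [lO, List.mem_map] at hr
      obtain ⟨j, -, rfl⟩ := hr
      split_ifs with h
      swap
      · rfl
      obtain ⟨h0, h1, -, -, lv, lv'⟩ := hO j h
      simp only [map_mul, map_inv, lcm, lv, lv', h0, h1]
      have hjk : ∀ l : Fin (n + 2), (l : ℕ) = (j : ℕ) + 1 ∨ (l : ℕ) = (j : ℕ) + 2 → j ≠ l :=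
        fun l hl e => by rw [← e] at hl; omega
      set j1 : Fin (n + 2) := ⟨(j : ℕ) + 1, by omega⟩ with hj1
      set j2 : Fin (n + 2) := ⟨(j : ℕ) + 2, h⟩ with hj2
      have n12 : j1 ≠ j2 := fun e => by rw [Fin.ext_iff, hj1, hj2] at e; simp at e
      have nj1 : j ≠ j1 := hjk _ (Or.inl rfl)
      have nj2 : j ≠ j2 := hjk _ (Or.inr rfl)
      rw [E_conj, E_conj, pm_e, pm_e, swap_apply_of_ne_of_ne nj1 nj2, swap_apply_left,
        shear_e P.act P.two n12, ap_E (by simp [SpAmalgam.B_e, n12.symm]),
        E_add (B_ee _ _) (B_ee _ _), B_ee, T_zero, mul_one]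
      simp [SpAmalgam.B_e, nj1, nj1.symm, nj2, nj2.symm]
  · intro G _ π hπ hrel θ hθ
    have hθ' : ∀ x, θ (π x) = FreeGroup.lift f x := fun x => DFunLike.congr_fun hθ x
    have hr : ∀ r ∈ rl, π r.1 = π r.2 := hrel
    have rc : ∀ x y, cp x y ∈ rl → Commute (π x) (π y) := fun x y h => by
      have := hr _ h
      simp only [cp, map_mul] at this
      exact this
    obtain ⟨τX, hτX⟩ := univW G (fun i => π (iW (FreeGroup.of i))) fun r h => by
      have e : FreeGroup.lift (fun i => π (iW (FreeGroup.of i))) = π.comp iW :=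
        FreeGroup.ext_hom _ _ fun i => by simp
      have := hr (iW r, 1) (by simp [rl, lR]; exact Or.inl ⟨r, h, rfl⟩)
      rw [e]; simpa using this
    obtain ⟨ρX, hρX⟩ := univS G (fun i => π (iS (FreeGroup.of i))) fun r h => by
      have e : FreeGroup.lift (fun i => π (iS (FreeGroup.of i))) = π.comp iS :=
        FreeGroup.ext_hom _ _ fun i => by simp
      have := hr (iS r, 1) (by simp [rl, lR]; exact Or.inr (Or.inl ⟨r, h, rfl⟩))
      rw [e]; simpa using this
    have hτ : ∀ w, π (tw w) = τX w := fun w => by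
      have e : π.comp iW = τX.comp (FreeGroup.lift fW) :=
        FreeGroup.ext_hom _ _ fun i => by simp [hτX]
      show π.comp iW (wd w) = _
      rw [e, MonoidHom.comp_apply, hwd]
    have hρ : ∀ g, π (rr g) = ρX g := fun g => by
      have e : π.comp iS = ρX.comp (FreeGroup.lift fS) :=
        FreeGroup.ext_hom _ _ fun i => by simp [hρX]
      show π.comp iS (sd g) = _
      rw [e, MonoidHom.comp_apply, hsd]
    let S : Setting F n W G :=
      { act := P.act
        θ := θ
        ρ := ρX
        τ := τX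
        m := π mw
        θ_ρ := fun g => by rw [← hρ, hθ', lrr]
        θ_τ := fun w => by rw [← hτ, hθ', ltw]
        θ_m := by rw [hθ', lmw]
        two := P.two
        fix_ρ := fun w hw g => by
          have h1 : ∀ g, ∀ a ∈ P.stab, g = ga ∨ g = gb → Commute (ρX g) (τX a) := by
            rintro g a ha (rfl | rfl) <;> rw [← hρ, ← hτ] <;> refine (rc _ _ ?_).symm <;>
              (simp only [rl, List.mem_append]; iterate 8 left
               right; simp only [lF, List.mem_flatMap, List.mem_cons]; exact ⟨a, ha, by simp⟩)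
          refine commute_map_of_closure ρX (x := τX w) ?_ (hab ▸ Subgroup.mem_top g)
          intro g hg
          refine (commute_map_of_closure τX (fun a ha => h1 g a ha ?_) (P.stab_gen w hw)).symm
          simpa using hg }
    have hsl : ∀ j g, π (slw j g) = S.sl j g := fun j g => by
      rw [S.sl_eq (hptd j), Setting.cw_apply, map_mul, map_mul, map_inv, hτ, hρ]
    have hcm : ∀ w, π (cm w) = S.cw w S.m := fun w => by
      rw [Setting.cw_apply, map_mul, map_mul, map_inv, hτ]
    have hVF : ∀ K, ∀ v ∈ VF K, π v ∈ S.V K := fun K v hv => by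
      rw [Setting.V, ← map_Vgen π P.act hsl hcm 0 1 K]
      exact Subgroup.mem_map_of_mem π hv
    have M : MinRels S P.toWData ω ga gb C := by
      refine ⟨fun a ha => ?_, ?_, ?_, ?_, fun hn => ?_, fun hn => ?_, fun c hc => ?_, fun p hp => ?_⟩
      · rw [← hτ]
        exact rc _ _ (by simp only [rl, List.mem_append]; iterate 6 left
                         right; simp only [lM, List.mem_map]; exact ⟨a, ha, rfl⟩)
      · rw [← hsl]; show Commute (ρX ga) _; rw [← hρ]
        exact rc _ _ (by simp [rl, lSS])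
      · rw [← hsl]; show Commute (ρX ga) _; rw [← hρ]
        exact rc _ _ (by simp [rl, lSS])
      · rw [← hsl]; show Commute (ρX gb) _; rw [← hρ]
        exact rc _ _ (by simp [rl, lSS])
      · have e : S.ρ (dg ω) * S.sl 1 (dg ω⁻¹) = π Dw := by rw [map_mul, hρ, hsl]
        rw [e, ← hsl]
        exact ⟨rc _ _ (by simp [rl, lZ, hn]), rc _ _ (by simp [rl, lZ, hn])⟩
      · have hn' : n ≠ 0 := by omega
        have e : S.ρ (dg ω) * S.sl 1 (dg ω⁻¹) = π Dw := by rw [map_mul, hρ, hsl]
        rw [e, ← hsl, ← hsl, ← hsl, ← hsl, ← map_mul, ← map_mul]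
        exact ⟨rc _ _ (by simp [rl, lZ, hn']), rc _ _ (by simp [rl, lZ, hn']),
          rc _ _ (by simp [rl, lZ, hn'])⟩
      · have := hr (mw * (slw 1 (wm * dg (-c)) * mw * (slw 1 (wm * dg (-c)))⁻¹),
          slw 1 (lo (c : F)) * mw * (slw 1 (lo (c : F)))⁻¹ * rr (up (c : F))) (by
            simp only [rl, List.mem_append]; iterate 4 left
            right; simp only [lC, List.mem_map]; exact ⟨c, hc, rfl⟩)
        simpa only [map_mul, map_inv, hsl, hρ] using this
      · rw [← hcm]
        exact rc _ _ (by simp only [rl, List.mem_append]; iterate 3 left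
                         right; simp only [lP, List.mem_map]; exact ⟨p, hp, rfl⟩)
    have R : Rels S := M.rels rfl hω hab hC
    refine R.bijective ?_ ?_
    · -- the extra relation
      by_cases hF : ∃ a : F, a ≠ 0 ∧ a ≠ 1
      · exact Or.inl hF
      refine Or.inr fun j hj => ?_
      have key : ∀ j ∈ P.orthK, ∀ hj : (j : ℕ) + 2 < n + 2,
          π (cm (wO j)) * (π (vO' j) * π (cm (wO j)) * (π (vO' j))⁻¹) =
            π (vO j) * π (cm (wO j)) * (π (vO j))⁻¹ := by
        intro j hjm hj
        have := hr (cm (wO j) * (vO' j * cm (wO j) * (vO' j)⁻¹), vO j * cm (wO j) * (vO j)⁻¹) (by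
          simp only [rl, List.mem_append]; right
          simp only [lO, List.mem_map, orthList, if_neg hF]
          exact ⟨j, hjm, by rw [if_pos hj]⟩)
        simpa only [map_mul, map_inv] using this
      have base : ∀ i ∈ P.orthK, ∀ hi : (i : ℕ) + 2 < n + 2,
          ∃ w : W, ∃ y ∈ S.V {(i : ℕ) + 1, (i : ℕ) + 2}, ∃ y' ∈ S.V {(i : ℕ) + 1, (i : ℕ) + 2},
            S.act w 0 = i ∧ S.act w 1 = ⟨(i : ℕ) + 1, by omega⟩ ∧
            ap (θ y) (e ⟨(i : ℕ) + 1, by omega⟩) = e ⟨(i : ℕ) + 1, by omega⟩ + e ⟨(i : ℕ) + 2, hi⟩ ∧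
            ap (θ y') (e ⟨(i : ℕ) + 1, by omega⟩) = e ⟨(i : ℕ) + 2, hi⟩ ∧
            S.cw w S.m * (y' * S.cw w S.m * y'⁻¹) = y * S.cw w S.m * y⁻¹ := by
        intro i him hi
        obtain ⟨h0, h1, hv, hv', lv, lv'⟩ := hO i hi
        refine ⟨wO i, _, hVF _ _ hv, _, hVF _ _ hv', h0, h1, ?_, ?_, ?_⟩
        · rw [hθ', lv]
          exact shear_e P.act P.two (fun e => by simp [Fin.ext_iff] at e)
        · rw [hθ', lv', pm_e, swap_apply_left]
        · rw [← hcm]; exact key i him hi
      rcases P.orth_spec j hj with hjm | ⟨h0m, u, hu0, hu1, hu2⟩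
      · obtain ⟨w, y, hy, y', hy', h⟩ := base j hjm hj
        exact ⟨w, y, S.V_le_Vj (by simp) hy, y', S.V_le_Vj (by simp) hy', h⟩
      have hn : 0 < n := by omega
      obtain ⟨w, y, hy, y', hy', h0, h1, ey, ey', he⟩ := base 0 h0m (by simp; omega)
      have e1 : (⟨((0 : Fin (n + 2)) : ℕ) + 1, by simp⟩ : Fin (n + 2)) = 1 := Fin.ext (by simp)
      have e2 : (⟨((0 : Fin (n + 2)) : ℕ) + 2, by simp; omega⟩ : Fin (n + 2)) = 2 :=
        Fin.ext (by rw [val_two hn]; simp)
      rw [e1] at h1 ey ey'
      rw [e2] at ey ey'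
      have u0 : S.act u 0 = j := Fin.ext hu0
      have u1 : S.act u 1 = (⟨(j : ℕ) + 1, by omega⟩ : Fin (n + 2)) := Fin.ext hu1
      have u2 : S.act u 2 = (⟨(j : ℕ) + 2, hj⟩ : Fin (n + 2)) := Fin.ext hu2
      have hmap : ∀ x : Fin (n + 2), (x : ℕ) ∈ ({((0 : Fin (n + 2)) : ℕ) + 1,
          ((0 : Fin (n + 2)) : ℕ) + 2} : Set ℕ) → x = 1 ∨ x = 2 := by
        intro x hx
        simp only [Fin.val_zero, zero_add, Set.mem_insert_iff, Set.mem_singleton_iff] at hx
        rcases hx with h | h
        · exact Or.inl (Fin.ext (by simpa using h))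
        · exact Or.inr (Fin.ext (by rw [val_two hn, h]))
      have hV : ∀ z ∈ S.V {((0 : Fin (n + 2)) : ℕ) + 1, ((0 : Fin (n + 2)) : ℕ) + 2},
          S.cw u z ∈ S.Vj ((j : ℕ) + 1) := by
        intro z hz
        refine S.V_le_Vj (K := {(j : ℕ) + 1, (j : ℕ) + 2}) (by simp) (S.cw_V ?_ ?_ hz)
        · intro x hx
          rcases hmap x hx with rfl | rfl
          · rw [u1]; simp
          · rw [u2]; simp
        · intro x x' hx hx' hxx
          rcases hmap x hx with rfl | rfl <;> rcases hmap x' hx' with rfl | rfl <;>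
            simp only [val_two hn, Fin.val_one] at hxx
          · omega
          · rw [u1, u2]
          · omega
          · omega
      have inv : ∀ x, ap (pm (S.act u) : Sp (n + 2) F)⁻¹ (e (S.act u x)) = e x := fun x => by
        rw [← pm_e, ap_inv_ap]
      refine ⟨u * w, S.cw u y, hV y hy, S.cw u y', hV y' hy', ?_, ?_, ?_, ?_, ?_⟩
      · rw [map_mul, Perm.mul_apply, h0, u0]
      · rw [map_mul, Perm.mul_apply, h1, u1]
      · rw [S.θ_cw, ap_mul, ap_mul, ← u1, inv, ey, map_add, pm_e, pm_e, u2]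
      · rw [S.θ_cw, ap_mul, ap_mul, ← u1, inv, ey', pm_e, u2]
      · rw [S.cw_mul, ← map_inv, ← map_inv, ← map_mul, ← map_mul, ← map_mul, he, map_mul, map_mul]
    · -- generation
      have hU : ∀ y, y ∈ S.V Set.univ → y ∈ S.Vj 0 := fun y hy => S.V_le_Vj (by simp) hy
      have hρU : ∀ g, ρX g ∈ S.Vj 0 := fun g => by
        have := S.sl_zero g
        exact Subgroup.subset_closure (Or.inl ⟨0, Nat.zero_le _, g, this.symm⟩)
      have hmU : π mw ∈ S.Vj 0 := Subgroup.subset_closure (Or.inr ⟨1, Nat.zero_le _,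
        by simp, (S.cw_one _).symm⟩)
      have hτU : ∀ w, τX w ∈ S.Vj 0 := by
        suffices h : (S.Vj 0).comap τX = ⊤ from fun w => by
          have : w ∈ (S.Vj 0).comap τX := by rw [h]; trivial
          exact this
        refine P.gen _ (fun c hc => ?_) fun c hc u j hu => ?_
        · show τX c ∈ S.Vj 0
          rw [← hτ, hr (tw c, vA c) (by
            simp only [rl, List.mem_append]; iterate 2 left
            right; simp only [lA, List.mem_map]; exact ⟨c, hc, rfl⟩)]
          exact hU _ (hVF _ _ (hvA c))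
        · show τX (u * c * u⁻¹) ∈ S.Vj 0
          have hc' : τX c ∈ S.V {0, 1, 2} := by
            rw [← hτ, hr (tw c, vT c) (by
              simp only [rl, List.mem_append]; left; right
              simp only [lT, List.mem_map]; exact ⟨c, hc, rfl⟩)]
            exact hVF _ _ (hvT c hc).1
          have hn := P.tri_pos c hc
          obtain ⟨u0, u1, u2⟩ := hu
          have hmap : ∀ x : Fin (n + 2), (x : ℕ) ∈ ({0, 1, 2} : Set ℕ) → x = 0 ∨ x = 1 ∨ x = 2 := by
            intro x hx
            simp only [Set.mem_insert_iff, Set.mem_singleton_iff] at hx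
            rcases hx with h | h | h
            · exact Or.inl (Fin.ext h)
            · exact Or.inr (Or.inl (Fin.ext (by simpa using h)))
            · exact Or.inr (Or.inr (Fin.ext (by rw [val_two hn, h])))
          have h1 := S.cw_V (u := u) (K' := Set.univ) (fun _ _ => Set.mem_univ _) (fun x x' hx hx' hxx => by
            show (P.act u x' : ℕ) = (P.act u x : ℕ) + 1
            rcases hmap x hx with rfl | rfl | rfl <;> rcases hmap x' hx' with rfl | rfl | rfl <;>
              simp only [val_two hn, Fin.val_zero, Fin.val_one] at hxx <;> omega) hc'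
          rw [map_mul, map_mul, map_inv]
          exact hU _ h1
      rw [eq_top_iff]
      intro y hy
      clear hy
      obtain ⟨x, rfl⟩ := hπ y
      have hx : x ∈ Subgroup.closure (Set.range (FreeGroup.of : Fin (k + 3 + 1) → _)) := by
        rw [FreeGroup.closure_range_of]; trivial
      induction hx using Subgroup.closure_induction with
      | mem z hz =>
        obtain ⟨i, rfl⟩ := hz
        induction i using Fin.addCases with
        | left i =>
          induction i using Fin.addCases with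
          | left i =>
            have : π (FreeGroup.of (Fin.castAdd 1 (Fin.castAdd 3 i))) = τX (fW i) := by
              rw [hτX]; simp [iW]
            rw [this]; exact hτU _
          | right i =>
            have : π (FreeGroup.of (Fin.castAdd 1 (Fin.natAdd k i))) = ρX (fS i) := by
              rw [hρX]; simp [iS]
            rw [this]; exact hρU _
        | right i =>
          rw [show i = 0 from Subsingleton.elim _ _]
          exact hmU
      | one => rw [map_one]; exact one_mem _
      | mul a b _ _ ha hb => rw [map_mul]; exact mul_mem ha hb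
      | inv a _ ha => rw [map_inv]; exact inv_mem ha

end Cfsg.Agent.H68.SpPres
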