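import Cfsg.Agent.H68.SpPres.Derived

/-!
The relations in the symplectic group itself, and the permutation matrices as words in the elements of
the amalgam.
-/

set_option autoImplicit false
set_option linter.unusedSectionVars false
set_option linter.unusedSimpArgs false

namespace Cfsg.Agent.H68.SpPres

open Cfsg.Agent.Symplectic Cfsg.Agent.H68.SpAmalgam Cfsg.Agent.H99.ShortPres Equiv

attribute [-simp] spB_apply

variable {F : Type*} [Field F]

local notation "SL2" => Matrix.SpecialLinearGroup (Fin 2) F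

section Vgen

variable {n : ℕ} {W : Type*} [Group W]

/-- The subgroup generated by the planes in `K` and the short root elements of neighbours in `K`. -/
def Vgen {G : Type*} [Group G] (act : W →* Perm (Fin n)) (slf : Fin n → SL2 → G)
    (cm : W → G) (i₀ i₁ : Fin n) (K : Set ℕ) : Subgroup G :=
  Subgroup.closure {x | (∃ k : Fin n, (k : ℕ) ∈ K ∧ ∃ g, x = slf k g) ∨
    ∃ w : W, (act w i₀ : ℕ) ∈ K ∧ (act w i₁ : ℕ) ∈ K ∧ (act w i₁ : ℕ) = (act w i₀ : ℕ) + 1 ∧ x = cm w}

theorem map_Vgen {G H : Type*} [Group G] [Group H] (φ : G →* H) (act : W →* Perm (Fin n))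
    {slf : Fin n → SL2 → G} {cm : W → G} {slf' : Fin n → SL2 → H} {cm' : W → H}
    (hs : ∀ k g, φ (slf k g) = slf' k g) (hc : ∀ w, φ (cm w) = cm' w) (i₀ i₁ : Fin n) (K : Set ℕ) :
    (Vgen act slf cm i₀ i₁ K).map φ = Vgen act slf' cm' i₀ i₁ K := by
  rw [Vgen, Vgen, MonoidHom.map_closure]
  congr 1
  ext y
  constructor
  · rintro ⟨x, ⟨k, hk, g, rfl⟩ | ⟨w, h0, h1, h2, rfl⟩, rfl⟩
    · exact Or.inl ⟨k, hk, g, hs k g⟩
    · exact Or.inr ⟨w, h0, h1, h2, hc w⟩
  · rintro (⟨k, hk, g, rfl⟩ | ⟨w, h0, h1, h2, rfl⟩)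
    · exact ⟨_, Or.inl ⟨k, hk, g, rfl⟩, hs k g⟩
    · exact ⟨_, Or.inr ⟨w, h0, h1, h2, rfl⟩, hc w⟩

theorem Vgen_mono {G : Type*} [Group G] {act : W →* Perm (Fin n)} {slf : Fin n → SL2 → G} {cm : W → G}
    {i₀ i₁ : Fin n} {K K' : Set ℕ} (h : K ⊆ K') :
    Vgen act slf cm i₀ i₁ K ≤ Vgen act slf cm i₀ i₁ K' := by
  refine Subgroup.closure_mono ?_
  rintro x (⟨k, hk, g, rfl⟩ | ⟨w, h0, h1, h2, rfl⟩)
  · exact Or.inl ⟨k, h hk, g, rfl⟩
  · exact Or.inr ⟨w, h h0, h h1, h2, rfl⟩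

end Vgen

namespace Setting

variable {n : ℕ} {W : Type*} [Group W] {X : Type*} [Group X] (S : Setting F n W X)

/-- `Vgen` inside `X`. -/
noncomputable def V (K : Set ℕ) : Subgroup X :=
  Vgen S.act (fun k g => S.sl k g) (fun w => S.cw w S.m) 0 1 K

theorem V_le_Vj {K : Set ℕ} {j : ℕ} (h : ∀ x ∈ K, j ≤ x) : S.V K ≤ S.Vj j := by
  refine (Subgroup.closure_le _).2 ?_
  rintro x (⟨k, hk, g, rfl⟩ | ⟨w, h0, -, h2, rfl⟩)
  · exact Subgroup.subset_closure (Or.inl ⟨k, h _ hk, g, rfl⟩)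
  · exact Subgroup.subset_closure (Or.inr ⟨w, h _ h0, h2, rfl⟩)

theorem cw_V {u : W} {K K' : Set ℕ} (hK : ∀ k : Fin (n + 2), (k : ℕ) ∈ K → (S.act u k : ℕ) ∈ K')
    (hs : ∀ k l : Fin (n + 2), (k : ℕ) ∈ K → (l : ℕ) ∈ K → (l : ℕ) = (k : ℕ) + 1 →
      (S.act u l : ℕ) = (S.act u k : ℕ) + 1) {y : X} (hy : y ∈ S.V K) : S.cw u y ∈ S.V K' := by
  suffices h : S.V K ≤ (S.V K').comap (S.cw u) from h hy
  refine (Subgroup.closure_le _).2 ?_
  rintro x (⟨k, hk, g, rfl⟩ | ⟨w, h0, h1, h2, rfl⟩)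
  · show S.cw u (S.sl k g) ∈ S.V K'
    rw [S.cw_sl]
    exact Subgroup.subset_closure (Or.inl ⟨_, hK k hk, g, rfl⟩)
  · show S.cw u (S.cw w S.m) ∈ S.V K'
    rw [← S.cw_mul]
    refine Subgroup.subset_closure (Or.inr ⟨u * w, ?_, ?_, ?_, rfl⟩) <;>
      simp only [map_mul, Perm.mul_apply]
    · exact hK _ h0
    · exact hK _ h1
    · exact hs _ _ h0 h1 h2

end Setting

section Model

variable {n : ℕ} {W : Type*} [Group W] (act : W →* Perm (Fin (n + 2)))
  (two : ∀ a b, a ≠ b → ∃ w, act w 0 = a ∧ act w 1 = b)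

theorem pm_commute_emb {n : ℕ} {σ : Perm (Fin n)} {k : Fin n} (h : σ k = k) (g : SL2) :
    Commute (pm σ : Sp n F) (emb k g) := by
  have := pm_emb (F := F) σ k g
  rw [h, mul_inv_eq_iff_eq_mul] at this
  exact this

/-- The symplectic group with its own elements. -/
noncomputable def model : Setting F n W (Sp (n + 2) F) where
  act := act
  θ := MonoidHom.id _
  ρ := emb 0
  τ := pm.comp act
  m := E (e 0) (e 1)
  θ_ρ _ := rfl
  θ_τ _ := rfl
  θ_m := rfl
  two := two
  fix_ρ w hw g := pm_commute_emb hw g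

theorem model_sl (k : Fin (n + 2)) (g : SL2) : (model act two).sl k g = emb k g :=
  (model (F := F) act two).θ_sl k g

theorem model_cw (w : W) :
    (model (F := F) act two).cw w (E (e 0) (e 1)) = E (e (act w 0)) (e (act w 1)) := by
  have := pm_E (F := F) (act w) 0 1 1
  rwa [one_smul, one_smul] at this

theorem B_vec (v : F × F) : spB (n + 2) F (Setting.vec v) (e 0) = 0 := by
  simp [Setting.vec, B_right_e]

theorem emb_E (g : SL2) :
    emb (1 : Fin (n + 2)) g * E (e 0) (e 1) * (emb 1 g)⁻¹ = E (e 0) (Setting.vec (col g)) := by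
  rw [E_conj, (pl_emb 1 g 0 (by simp)).1, emb_e]
  rfl

theorem model_rels : Rels (model (F := F) act two) where
  fix_m w hw := by
    show (model (F := F) act two).cw w (E (e 0) (e 1)) = E (e 0) (e 1)
    rw [model_cw]
    rcases hw with ⟨h0, h1⟩ | ⟨h0, h1⟩
    · rw [show act w 0 = 0 from h0, show act w 1 = 1 from h1]
    · rw [show act w 0 = 1 from h0, show act w 1 = 0 from h1, E_comm (B_ee _ _)]
  SS g h := by
    rw [model_sl]
    exact (pl_emb 0 g).supp.commute (pl_emb 1 h).supp (by simp)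
  far l h0 h1 g := by
    rw [model_sl]
    have hU := up_E (F := F) (i := (0 : Fin (n + 2))) (j := 1) (by simp) 1
    rw [one_smul] at hU
    refine hU.supp.commute (pl_emb l g).supp ?_
    intro x hx hx'
    simp only [Set.mem_singleton_iff] at hx'
    subst hx'
    simp only [Fin.val_zero, zero_add, Set.mem_insert_iff, Set.mem_singleton_iff] at hx
    rcases hx with h | h
    · exact h0 (Fin.ext h)
    · exact h1 (Fin.ext (by simpa using h))
  m_x d := by
    rw [model_sl, emb_up]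
    have hU := up_E (F := F) (i := (0 : Fin (n + 2))) (j := 1) (by simp) 1
    rw [one_smul] at hU
    exact hU.commute (up_ex (i := (0 : Fin (n + 2))) (k := 1) (Or.inr (by simp)) d)
  m_h t := by
    rw [model_sl]
    show Commute (E (e 0) (e 1)) (emb 0 (dg t) * emb 1 (dg t⁻¹))
    have h : emb 0 (dg t) * emb 1 (dg t⁻¹) * E (e 0) (e 1) * (emb 0 (dg t) * emb 1 (dg t⁻¹))⁻¹ =
        (E (e 0) (e 1) : Sp (n + 2) F) := by
      rw [E_conj, ap_mul, ap_mul, (pl_emb 1 (dg t⁻¹) 0 (by simp)).1, emb_e, emb_e, map_add, map_smul,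
        map_smul, (pl_emb 0 (dg t) 1 (by simp)).1, (pl_emb 0 (dg t) 1 (by simp)).2]
      simp only [dg, Matrix.of_apply, Matrix.cons_val', Matrix.cons_val_zero, Matrix.cons_val_one,
        Matrix.empty_val', Matrix.cons_val_fin_one, zero_smul, add_zero]
      rw [E_smul (by simp [B_ee]), smul_smul, Units.mul_inv, one_smul]
    exact (mul_inv_eq_iff_eq_mul.1 h).symm
  law_base c := by
    rw [model_sl, model_sl]
    show E (e 0) (e 1) * (emb 1 _ * E (e 0) (e 1) * (emb 1 _)⁻¹) =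
      emb 1 _ * E (e 0) (e 1) * (emb 1 _)⁻¹ * emb 0 (up (c : F))
    rw [emb_E, emb_E, emb_up,
      show (col (wm * dg (-c)) : F × F) = (0, (c : F)) by rw [col_mul]; simp [gv, col, wm, dg],
      show (col (lo (c : F)) : F × F) = (1, (c : F)) by simp [col, lo],
      E_add (a := (e 0 : Fin (n + 2) ⊕ Fin (n + 2) → F)) (B_ee _ _) (B_vec (0, (c : F)))]
    congr 1
    · simp [Setting.vec]
    · rw [ex]
      congr 1
      simp [Setting.vec, B_f]
  comm w := by
    show Commute (E (e 0) (e 1)) ((model (F := F) act two).cw w (E (e 0) (e 1)))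
    rw [model_cw]
    have fix : ∀ a b l : Fin (n + 2), ap (E (e a) (e b) : Sp (n + 2) F) (e l) = e l := fun a b l => by
      rw [ap_E (B_ee _ _), B_ee, B_ee]; simp
    have h := E_conj (F := F) (E (e 0) (e 1)) (e (act w 0)) (e (act w 1))
    rw [fix, fix, mul_inv_eq_iff_eq_mul] at h
    exact h

/-- The words available in the symplectic group. -/
noncomputable def mV (K : Set ℕ) : Subgroup (Sp (n + 2) F) :=
  Vgen act (fun k g => emb k g) (fun w => E (e (act w 0)) (e (act w 1))) 0 1 K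

include two

/-- The element adding one basis vector to the other. -/
theorem exists_shear {K : Set ℕ} {i j : Fin (n + 2)} (hij : (j : ℕ) = (i : ℕ) + 1) (hi : (i : ℕ) ∈ K)
    (hj : (j : ℕ) ∈ K) :
    (E (-(f i)) (e j) : Sp (n + 2) F) ∈ mV act K ∧ (E (e i) (f j) : Sp (n + 2) F) ∈ mV act K := by
  have hne : i ≠ j := fun h => by rw [h] at hij; omega
  obtain ⟨w, h0, h1⟩ := two i j hne
  have hm : (E (e i) (e j) : Sp (n + 2) F) ∈ mV act K :=
    Subgroup.subset_closure (Or.inr ⟨w, by rw [h0]; exact hi, by rw [h1]; exact hj,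
      by rw [h0, h1]; exact hij, by simp only [h0, h1]⟩)
  have hwi : (emb i wm : Sp (n + 2) F) ∈ mV act K := Subgroup.subset_closure (Or.inl ⟨i, hi, _, rfl⟩)
  have hwj : (emb j wm : Sp (n + 2) F) ∈ mV act K := Subgroup.subset_closure (Or.inl ⟨j, hj, _, rfl⟩)
  constructor
  · have := mul_mem (mul_mem hwi hm) (inv_mem hwi)
    rwa [E_conj, emb_e, (pl_emb i wm j hne.symm).1,
      show ((wm : SL2) 0 0) • (e i : Fin (n + 2) ⊕ Fin (n + 2) → F) + ((wm : SL2) 1 0) • f i = -f i by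
        simp [wm]] at this
  · have := mul_mem (mul_mem (inv_mem hwj) hm) (inv_mem (inv_mem hwj))
    rw [E_conj] at this
    have a1 : ap (emb j wm : Sp (n + 2) F)⁻¹ (e i) = e i := by
      conv_lhs => rw [← (pl_emb (F := F) j wm i hne).1]
      rw [ap_inv_ap]
    have a2 : ap (emb j wm : Sp (n + 2) F)⁻¹ (e j) = f j := by
      have : ap (emb j wm : Sp (n + 2) F) (f j) = e j := by rw [emb_f]; simp [wm]
      conv_lhs => rw [← this]
      rw [ap_inv_ap]
    rwa [a1, a2] at this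

theorem shear_e {i j : Fin (n + 2)} (hne : i ≠ j) :
    ap (E (-(f i)) (e j) : Sp (n + 2) F) (e i) = e i + e j := by
  rw [ap_E (by simp [SpAmalgam.B_e, hne.symm])]
  simp [SpAmalgam.B_e]

theorem pm_swap_mem {K : Set ℕ} {i j : Fin (n + 2)} (hij : (j : ℕ) = (i : ℕ) + 1) (hi : (i : ℕ) ∈ K)
    (hj : (j : ℕ) ∈ K) : (pm (swap i j) : Sp (n + 2) F) ∈ mV act K := by
  have hne : i ≠ j := fun h => by rw [h] at hij; omega
  obtain ⟨ha, hb⟩ := exists_shear (F := F) act two hij hi hj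
  have hd : (emb i (dg (-1)) : Sp (n + 2) F) ∈ mV act K :=
    Subgroup.subset_closure (Or.inl ⟨i, hi, _, rfl⟩)
  have hBa : spB (n + 2) F (e j) (-(f i)) = 0 := by simp [SpAmalgam.B_e, hne.symm]
  have hBb : spB (n + 2) F (f j) (e i) = 0 := by simp [B_f, hne.symm]
  suffices h : pm (swap i j) = emb i (dg (-1)) * (E (-(f i)) (e j) * E (e i) (f j) * E (-(f i)) (e j))
    by rw [h]; exact mul_mem hd (mul_mem (mul_mem ha hb) ha)
  have d1 : ap (emb i (dg (-1)) : Sp (n + 2) F) (e i) = -e i := by rw [emb_e]; simp [dg]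
  have d2 : ap (emb i (dg (-1)) : Sp (n + 2) F) (f i) = -f i := by rw [emb_f]; simp [dg]
  have d3 : ∀ l, l ≠ i → ap (emb i (dg (-1)) : Sp (n + 2) F) (e l) = e l ∧
      ap (emb i (dg (-1)) : Sp (n + 2) F) (f l) = f l := fun l hl => pl_emb i (dg (-1)) l hl
  refine ext_ap (fun l => ?_) fun l => ?_
  all_goals
    simp only [ap_mul, ap_E hBa, ap_E hBb, map_add, map_smul, map_neg, LinearMap.add_apply,
      LinearMap.smul_apply, LinearMap.neg_apply, smul_eq_mul, SpAmalgam.B_e, B_f, e_inl, e_inr, f_inl,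
      f_inr, pm_e, pm_f]
    by_cases hli : l = i
    · subst hli
      simp [hne, hne.symm, d1, d2, d3 j hne.symm]
    by_cases hlj : l = j
    · subst hlj
      simp [hne, hne.symm, d1, d2, d3 l hne.symm]
    simp [hli, hlj, Ne.symm hli, Ne.symm hlj, swap_apply_of_ne_of_ne hli hlj, d3 l hli]

theorem pm_mem_univ (σ : Perm (Fin (n + 2))) : (pm σ : Sp (n + 2) F) ∈ mV act Set.univ := by
  have h : σ ∈ Submonoid.closure (Set.range fun i : Fin (n + 1) => swap i.castSucc i.succ) := by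
    rw [Equiv.Perm.mclosure_swap_castSucc_succ]; trivial
  induction h using Submonoid.closure_induction with
  | mem x hx =>
    obtain ⟨i, rfl⟩ := hx
    exact pm_swap_mem act two (by simp) (Set.mem_univ _) (Set.mem_univ _)
  | one => rw [map_one]; exact one_mem _
  | mul x y _ _ hx hy => rw [map_mul]; exact mul_mem hx hy

end Model

end Cfsg.Agent.H68.SpPres
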